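import Cfsg.Agent.Lib.Components.FourPrimes.Fix
import Cfsg.Agent.Lib.Coprime.FixedPointFree
import Cfsg.Agent.Lib.Hall.Solvable
import Cfsg.Agent.Lib.Hall.MinimalNormal
import Cfsg.Agent.Lib.Cores.Fitting
import Mathlib.FieldTheory.Finite.Basic

/-! Four primes, any two of them joined and no three of them joined in the spectrum of a solvable
group: the setting, and elementary tools. -/

set_option autoImplicit false
set_option linter.all false

namespace Cfsg.Agent.Components.FourPrimes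

open Subgroup
open scoped Pointwise commutatorElement

variable {G : Type*} [Group G]

/-- The setting: a group whose order involves only primes in `σ`, in which any two primes of `σ`
have commuting elements, any has a noncyclic elementary subgroup, and no three have elements that
commute pairwise. -/
structure Ctx (G : Type*) [Group G] (σ : Finset ℕ) : Prop where
  prime : ∀ p ∈ σ, p.Prime
  pi : ∀ p : ℕ, p.Prime → p ∣ Nat.card G → p ∈ σ
  triple : ∀ a ∈ σ, ∀ b ∈ σ, ∀ c ∈ σ, a ≠ b → b ≠ c → a ≠ c → ∀ x y z : G, orderOf x = a →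
    orderOf y = b → orderOf z = c → Commute x y → Commute y z → Commute x z → False
  pair : ∀ a ∈ σ, ∀ b ∈ σ, a ≠ b → ∃ x y : G, orderOf x = a ∧ orderOf y = b ∧ Commute x y
  rank : ∀ a ∈ σ, ∃ E : Subgroup G, Cfsg.IsElementaryAbelian a E ∧ ¬ IsCyclic E

/-- `r`-rank at most one. -/
def Uniq (r : ℕ) (H : Subgroup G) : Prop :=
  ∀ x ∈ H, ∀ y ∈ H, orderOf x = r → orderOf y = r → Commute x y → y ∈ zpowers x

theorem isPGroup_of_elem {p : ℕ} {E : Subgroup G} (hE : Cfsg.IsElementaryAbelian p E) :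
    IsPGroup p E := fun x => ⟨1, Subtype.ext (by simpa using hE.2 x x.2)⟩

theorem orderOf_of_mem_elem {p : ℕ} (hp : p.Prime) {E : Subgroup G}
    (hE : Cfsg.IsElementaryAbelian p E) {x : G} (hx : x ∈ E) (hx1 : x ≠ 1) : orderOf x = p :=
  haveI := Fact.mk hp
  orderOf_eq_prime (hE.2 x hx) hx1

theorem commute_of_mem_elem {p : ℕ} {E : Subgroup G} (hE : Cfsg.IsElementaryAbelian p E) {x y : G}
    (hx : x ∈ E) (hy : y ∈ E) : Commute x y :=
  congrArg Subtype.val (hE.1.is_comm.comm ⟨x, hx⟩ ⟨y, hy⟩)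

theorem orderOf_conj (g x : G) : orderOf (g * x * g⁻¹) = orderOf x := by
  rw [← MulAut.conj_apply]
  exact MulEquiv.orderOf_eq _ x

theorem elementary_of_le {p : ℕ} {E L : Subgroup G} (hE : Cfsg.IsElementaryAbelian p E)
    (h : L ≤ E) : Cfsg.IsElementaryAbelian p L :=
  ⟨⟨⟨fun a b => Subtype.ext (commute_of_mem_elem hE (h a.2) (h b.2))⟩⟩, fun a ha => hE.2 a (h ha)⟩

theorem elem_le_centralizer_zpowers {A : Subgroup G} {e : G} :
    zpowers e ≤ centralizer (A : Set G) ↔ ∀ a ∈ A, Commute a e := by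
  rw [zpowers_le, mem_centralizer_iff]
  exact Iff.rfl

theorem mem_centralizer_zpowers {e x : G} (h : Commute e x) :
    x ∈ centralizer (zpowers e : Set G) := by
  rintro _ ⟨j, rfl⟩
  exact (h.zpow_left j).eq

theorem mem_normalizer_of_commute {e : G} {H : Subgroup G} (h : ∀ x ∈ H, Commute e x) :
    e ∈ normalizer (H : Set G) :=
  centralizer_le_normalizer _ (mem_centralizer_iff.mpr fun x hx => (h x hx).symm.eq)

theorem normalizer_le_normalizer_centralizer (A : Subgroup G) :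
    normalizer (A : Set G) ≤ normalizer (centralizer (A : Set G) : Set G) := by
  intro g hg
  rw [mem_normalizer_iff]
  refine fun x => ⟨fun hx => mem_centralizer_iff.mpr fun a ha => ?_,
    fun hx => mem_centralizer_iff.mpr fun a ha => ?_⟩
  · have h1 := mem_centralizer_iff.mp hx _ ((mem_normalizer_iff''.mp hg a).mp ha)
    calc a * (g * x * g⁻¹) = g * (g⁻¹ * a * g * x) * g⁻¹ := by group
      _ = g * (x * (g⁻¹ * a * g)) * g⁻¹ := by rw [h1]
      _ = g * x * g⁻¹ * a := by group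
  · have h1 := mem_centralizer_iff.mp hx _ ((mem_normalizer_iff.mp hg a).mp ha)
    calc a * x = g⁻¹ * (g * a * g⁻¹ * (g * x * g⁻¹)) * g := by group
      _ = g⁻¹ * (g * x * g⁻¹ * (g * a * g⁻¹)) * g := by rw [h1]
      _ = x * a := by group

theorem mem_normalizer_commutator {H K : Subgroup G} {m : G}
    (hH : m ∈ normalizer (H : Set G)) (hK : m ∈ normalizer (K : Set G)) :
    m ∈ normalizer ((⁅H, K⁆ : Subgroup G) : Set G) :=
  mem_normalizer_iff_map_conj_eq.mpr (by
    rw [Subgroup.map_commutator, mem_normalizer_iff_map_conj_eq.mp hH,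
      mem_normalizer_iff_map_conj_eq.mp hK])

/-- What normalizes `H` and `A` normalizes the centralizer of `A` in `H`. -/
theorem mem_normalizer_inf_centralizer {A H : Subgroup G} {g : G}
    (hH : g ∈ normalizer (H : Set G)) (hA : g ∈ normalizer (A : Set G)) :
    g ∈ normalizer ((H ⊓ centralizer (A : Set G) : Subgroup G) : Set G) :=
  inf_normalizer_le_normalizer_inf ⟨hH, normalizer_le_normalizer_centralizer A hA⟩

theorem commute_mem_normalizer_zpowers {e g : G} (h : Commute g e) :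
    g ∈ normalizer (zpowers e : Set G) :=
  mem_normalizer_of_commute (by rintro _ ⟨j, rfl⟩; exact h.zpow_right j)

section Finite

variable [Finite G] {p q r s a b c : ℕ}

theorem exists_orderOf_eq [hp : Fact p.Prime] {P : Subgroup G} (hP : IsPGroup p P) (h : P ≠ ⊥) :
    ∃ x ∈ P, orderOf x = p := by
  have : Nontrivial P := (nontrivial_iff_ne_bot P).mpr h
  obtain ⟨k, hk0, hk⟩ := hP.nontrivial_iff_card.mp this
  obtain ⟨x, hx⟩ := exists_prime_orderOf_dvd_card' (G := P) p (hk ▸ dvd_pow_self p hk0.ne')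
  exact ⟨x, x.2, by rw [orderOf_coe, hx]⟩

theorem coprime_card {P Q : Subgroup G} (hp : p.Prime) (hq : q.Prime) (h : p ≠ q)
    (hP : IsPGroup p P) (hQ : IsPGroup q Q) : (Nat.card P).Coprime (Nat.card Q) := by
  haveI := Fact.mk hp
  haveI := Fact.mk hq
  obtain ⟨k, hk⟩ := IsPGroup.iff_card.mp hP
  obtain ⟨l, hl⟩ := IsPGroup.iff_card.mp hQ
  rw [hk, hl]
  exact Nat.Coprime.pow k l ((Nat.coprime_primes hp hq).mpr h)

theorem coprime_card_prime {P : Subgroup G} (hp : p.Prime) (hq : q.Prime) (h : p ≠ q)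
    (hP : IsPGroup p P) : (Nat.card P).Coprime q := by
  haveI := Fact.mk hp
  obtain ⟨k, hk⟩ := IsPGroup.iff_card.mp hP
  rw [hk]
  exact ((Nat.coprime_primes hp hq).mpr h).pow_left k

theorem isPGroup_zpowers (hp : p.Prime) {x : G} (hx : orderOf x = p) : IsPGroup p (zpowers x) :=
  haveI := Fact.mk hp
  IsPGroup.of_card (n := 1) (by rw [Nat.card_zpowers, hx, pow_one])

/-- A prime-order element in a `c`-group: nontrivial elements have powers of order `c`. -/
theorem exists_pow_orderOf (hc : c.Prime) {W : Subgroup G} (hW : IsPGroup c W) {w : G}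
    (hw : w ∈ W) (hw1 : w ≠ 1) : ∃ n : ℕ, orderOf (w ^ n) = c ∧ w ^ n ∈ W := by
  haveI := Fact.mk hc
  obtain ⟨k, hk⟩ := hW ⟨w, hw⟩
  have hd : c ∣ orderOf w := by
    obtain ⟨j, -, hj⟩ := (Nat.dvd_prime_pow hc).mp
      (orderOf_dvd_of_pow_eq_one (congrArg Subtype.val hk : w ^ c ^ k = 1))
    rcases Nat.eq_zero_or_pos j with rfl | hj0
    · exact absurd (orderOf_eq_one_iff.mp (hj.trans (pow_zero c))) hw1
    · rw [hj]; exact dvd_pow_self c hj0.ne'
  exact ⟨orderOf w / c, orderOf_pow_orderOf_div (orderOf_pos w).ne' hd, pow_mem hw _⟩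

theorem exists_elem_of_not_uniq (hr : r.Prime) {H : Subgroup G} (h : ¬ Uniq r H) :
    ∃ E ≤ H, Cfsg.IsElementaryAbelian r E ∧ ¬ IsCyclic E := by
  simp only [Uniq, not_forall] at h
  obtain ⟨x, hx, y, hy, hox, hoy, hc, hnot⟩ := h
  haveI := Fact.mk hr
  have hE : ∀ z ∈ closure ({x, y} : Set G), z ∈ centralizer ({x, y} : Set G) ∧ z ^ r = 1 := by
    have hle : closure ({x, y} : Set G) ≤ centralizer ({x, y} : Set G) := by
      rw [closure_le]
      rintro z (rfl | rfl) <;> rintro w (rfl | rfl)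
      · rfl
      · exact hc.symm.eq
      · exact hc.eq
      · rfl
    intro z hz
    refine ⟨hle hz, ?_⟩
    induction hz using closure_induction with
    | mem w hw =>
      rcases hw with rfl | rfl
      · exact hox ▸ pow_orderOf_eq_one _
      · exact hoy ▸ pow_orderOf_eq_one _
    | one => exact one_pow r
    | mul u v hu hv hu1 hv1 =>
      have huv : Commute u v := by
        refine (mem_centralizer_iff.mp ?_ v hv).symm
        exact centralizer_closure ({x, y} : Set G) ▸ hle hu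
      rw [huv.mul_pow, hu1, hv1, one_mul]
    | inv u hu hu1 => rw [inv_pow, hu1, inv_one]
  have hab : IsMulCommutative (closure ({x, y} : Set G)) := by
    refine ⟨⟨fun u v => Subtype.ext ?_⟩⟩
    have h1 := (hE u u.2).1
    rw [← centralizer_closure] at h1
    exact (mem_centralizer_iff.mp h1 v v.2).symm
  refine ⟨closure {x, y}, by rw [closure_le]; rintro z (rfl | rfl) <;> assumption,
    ⟨hab, fun z hz => (hE z hz).2⟩, fun hcyc => hnot ?_⟩
  obtain ⟨⟨g, hg⟩, hgen⟩ := hcyc.exists_generator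
  obtain ⟨i, hi⟩ := hgen ⟨x, subset_closure (Set.mem_insert _ _)⟩
  obtain ⟨j, hj⟩ := hgen ⟨y, subset_closure (Set.mem_insert_of_mem _ rfl)⟩
  have hi' : g ^ i = x := congrArg Subtype.val hi
  have hj' : g ^ j = y := congrArg Subtype.val hj
  have hx1 : x ≠ 1 := fun e => hr.ne_one (by rw [← hox, e, orderOf_one])
  have hg1 : g ≠ 1 := fun e => hx1 (by rw [← hi', e, one_zpow])
  have hog : orderOf g = r := orderOf_eq_prime (hE g hg).2 hg1
  have heq : zpowers x = zpowers g := eq_of_le_of_card_ge (zpowers_le.mpr ⟨i, hi'⟩)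
    (by rw [Nat.card_zpowers, Nat.card_zpowers, hox, hog])
  rw [heq]
  exact ⟨j, hj'⟩

theorem not_uniq_of_elem (hr : r.Prime) {E H : Subgroup G} (hle : E ≤ H)
    (hE : Cfsg.IsElementaryAbelian r E) (hnc : ¬ IsCyclic E) : ¬ Uniq r H := by
  intro hu
  refine hnc ?_
  by_cases hb : E = ⊥
  · subst hb; infer_instance
  obtain ⟨x, hx, hx1⟩ := (bot_or_exists_ne_one E).resolve_left hb
  refine ⟨⟨x, hx⟩, fun ⟨y, hy⟩ => ?_⟩
  by_cases hy1 : y = 1
  · exact ⟨0, Subtype.ext (by simp [hy1])⟩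
  obtain ⟨k, hk⟩ := hu x (hle hx) y (hle hy) (orderOf_of_mem_elem hr hE hx hx1)
    (orderOf_of_mem_elem hr hE hy hy1) (commute_of_mem_elem hE hx hy)
  exact ⟨k, Subtype.ext hk⟩

theorem Uniq.mono {H L : Subgroup G} (h : Uniq r L) (hle : H ≤ L) : Uniq r H :=
  fun x hx y hy => h x (hle hx) y (hle hy)

theorem uniq_of_isCyclic (hr : r.Prime) {H : Subgroup G} (hc : IsCyclic H) : Uniq r H := by
  haveI := hc
  intro x hx y hy hox hoy _
  classical
  have := Fintype.ofFinite H
  set x' : H := ⟨x, hx⟩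
  set y' : H := ⟨y, hy⟩
  have hxo : orderOf x' = r := by rw [orderOf_mk, hox]
  have hS : (Finset.univ.filter fun u : H => u ∈ zpowers x') =
      Finset.univ.filter fun u : H => u ^ r = 1 := by
    refine Finset.eq_of_subset_of_card_le (fun u hu => ?_) ((IsCyclic.card_pow_eq_one_le hr.pos).trans ?_)
    · simp only [Finset.mem_filter, Finset.mem_univ, true_and] at hu ⊢
      exact hxo ▸ orderOf_dvd_iff_pow_eq_one.mp (orderOf_dvd_of_mem_zpowers hu)
    · rw [← Fintype.card_subtype, ← Nat.card_eq_fintype_card]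
      exact le_of_eq (hxo.symm.trans (Nat.card_zpowers x').symm)
  have hy' : y' ∈ Finset.univ.filter fun u : H => u ^ r = 1 := by
    simp only [Finset.mem_filter, Finset.mem_univ, true_and]
    exact Subtype.ext (hoy ▸ pow_orderOf_eq_one y)
  rw [← hS, Finset.mem_filter] at hy'
  obtain ⟨i, hi⟩ := mem_zpowers_iff.mp hy'.2
  exact ⟨i, congrArg Subtype.val hi⟩

/-- An `r`-group of rank one has a distinguished subgroup of order `r`. -/
theorem uniq_prime (hr : r.Prime) {L : Subgroup G} (hL : IsPGroup r L) (hne : L ≠ ⊥)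
    (hu : Uniq r L) :
    ∃ z ∈ L, orderOf z = r ∧ (∀ x ∈ L, orderOf x = r → x ∈ zpowers z) ∧
      normalizer (L : Set G) ≤ normalizer (zpowers z : Set G) := by
  haveI := Fact.mk hr
  have : Nontrivial L := (nontrivial_iff_ne_bot L).mpr hne
  have : Nontrivial (center L) := hL.center_nontrivial
  obtain ⟨⟨⟨z, hzL⟩, hzc⟩, hz⟩ : ∃ x : center L, orderOf x = r := by
    obtain ⟨k, hk0, hk⟩ := (hL.to_subgroup (center L)).nontrivial_iff_card.mp this
    exact exists_prime_orderOf_dvd_card' r (hk ▸ dvd_pow_self r hk0.ne')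
  rw [orderOf_mk, orderOf_mk] at hz
  have hall : ∀ x ∈ L, orderOf x = r → x ∈ zpowers z := fun x hx hox =>
    hu z hzL x hx hz hox (congrArg Subtype.val (mem_center_iff.mp hzc ⟨x, hx⟩)).symm
  refine ⟨z, hzL, hz, hall, fun g hg => ?_⟩
  rw [← Coprime.conj_smul_eq_self_iff]
  refine eq_of_le_of_card_ge ?_ (Coprime.card_conj_smul _ _).ge
  rw [Coprime.conj_smul_eq_map, MonoidHom.map_zpowers, zpowers_le]
  exact hall _ ((mem_normalizer_iff.mp hg z).mp hzL) (by
    show orderOf (g * z * g⁻¹) = r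
    rw [orderOf_conj, hz])

theorem isCyclic_of_uniq (hr : r.Prime) (hr2 : r ≠ 2) {L : Subgroup G} (hL : IsPGroup r L)
    (hu : Uniq r L) : IsCyclic L := by
  by_cases hne : L = ⊥
  · subst hne; infer_instance
  haveI := Fact.mk hr
  obtain ⟨z, hzL, hz, hall, -⟩ := uniq_prime hr hL hne hu
  have key : ∀ H : Subgroup L, Nat.card H = r → H = zpowers (⟨z, hzL⟩ : L) := by
    intro H hH
    refine eq_of_le_of_card_ge (fun y hy => ?_) (by rw [hH, Nat.card_zpowers, orderOf_mk, hz])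
    rcases (Nat.dvd_prime hr).mp (hH ▸ orderOf_dvd_natCard H hy) with h1 | h1
    · rw [orderOf_eq_one_iff.mp h1]; exact one_mem _
    · obtain ⟨k, hk⟩ := hall y y.2 (by rw [orderOf_coe, h1])
      exact ⟨k, Subtype.ext hk⟩
  exact (PGroups.UniqueSubgroup.isCyclic_or_quaternion hL
    fun H K hH hK => (key H hH).trans (key K hK).symm).resolve_right fun h => hr2 h.1

/-- An element with `g ^ b = 1` normalising a subgroup of prime order `r` centralizes it when
`b` is prime to `r - 1`. -/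
theorem commute_of_coprime_sub_one (hr : r.Prime) {e g : G} (he : orderOf e = r)
    (hg : g ∈ normalizer (zpowers e : Set G)) (hgb : g ^ b = 1) (hcop : b.Coprime (r - 1)) :
    Commute g e := by
  haveI := Fact.mk hr
  obtain ⟨i, hi⟩ : ∃ i : ℕ, e ^ i = g * e * g⁻¹ :=
    (isOfFinOrder_of_finite e).mem_powers_iff_mem_zpowers.mpr
      ((mem_normalizer_iff.mp hg e).mp (mem_zpowers e))
  have hk : ∀ j : ℕ, g ^ j * e * (g ^ j)⁻¹ = e ^ (i ^ j) := by
    intro j
    induction j with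
    | zero => simp
    | succ j ih =>
      calc g ^ (j + 1) * e * (g ^ (j + 1))⁻¹ = g * (g ^ j * e * (g ^ j)⁻¹) * g⁻¹ := by
            rw [pow_succ']; group
        _ = (g * e * g⁻¹) ^ (i ^ j) := by rw [ih, conj_pow]
        _ = e ^ (i ^ (j + 1)) := by rw [← hi, ← pow_mul, pow_succ']
  have hb : (i : ZMod r) ^ b = 1 := by
    have h := hk b
    rw [hgb, one_mul, inv_one, mul_one] at h
    have h2 : e ^ (i ^ b) = e ^ 1 := by rw [← h, pow_one]
    rw [pow_eq_pow_iff_modEq, he, ← ZMod.natCast_eq_natCast_iff] at h2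
    simpa using h2
  have hi0 : (i : ZMod r) ≠ 0 := by
    intro h0
    rw [ZMod.natCast_eq_zero_iff] at h0
    have h1 : g * e * g⁻¹ = 1 := by
      rw [← hi]; exact orderOf_dvd_iff_pow_eq_one.mp (he ▸ h0)
    rw [conj_eq_one_iff] at h1
    exact hr.ne_one (by rw [← he, h1, orderOf_one])
  have h1 : (i : ZMod r) = 1 := orderOf_eq_one_iff.mp (Nat.eq_one_of_dvd_coprimes hcop
    (orderOf_dvd_of_pow_eq_one hb) (orderOf_dvd_of_pow_eq_one (ZMod.pow_card_sub_one_eq_one hi0)))
  have h3 : g * e * g⁻¹ = e := by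
    conv_rhs => rw [← pow_one e]
    rw [← hi, pow_eq_pow_iff_modEq, he, ← ZMod.natCast_eq_natCast_iff, h1, Nat.cast_one]
  exact mul_inv_eq_iff_eq_mul.mp h3

theorem commute_of_not_dvd (hr : r.Prime) (hb : b.Prime) {e g : G} (he : orderOf e = r)
    (hg : g ∈ normalizer (zpowers e : Set G)) (hgo : orderOf g = b) (hnd : ¬ b ∣ r - 1) :
    Commute g e :=
  commute_of_coprime_sub_one hr he hg (hgo ▸ pow_orderOf_eq_one g)
    (hb.coprime_iff_not_dvd.mpr hnd)

theorem commute_of_same_prime (hr : r.Prime) {e g : G} (he : orderOf e = r)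
    (hg : g ∈ normalizer (zpowers e : Set G)) {R : Subgroup G} (hR : IsPGroup r R) (hgR : g ∈ R) :
    Commute g e := by
  obtain ⟨k, hk⟩ := hR ⟨g, hgR⟩
  refine commute_of_coprime_sub_one hr he hg (congrArg Subtype.val hk : g ^ r ^ k = 1)
    (Nat.Coprime.pow_left k ?_)
  rw [hr.coprime_iff_not_dvd]
  exact Nat.not_dvd_of_pos_of_lt (by have := hr.two_le; omega) (by have := hr.pos; omega)

/-- An element moving `e` fixes no nontrivial element of `⟨e⟩`. -/
theorem eq_one_of_moves (hr : r.Prime) {e g : G} (he : orderOf e = r) (h : ¬ Commute g e)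
    {y : G} (hy : y ∈ zpowers e) (hgy : Commute g y) : y = 1 := by
  by_contra hy1
  haveI := Fact.mk hr
  obtain ⟨k, hk⟩ := mem_zpowers_iff.mp hy
  have hyo : orderOf y = r := orderOf_eq_prime (by
    rw [← hk, ← zpow_natCast (e ^ k), ← zpow_mul, mul_comm, zpow_mul, zpow_natCast, ← he,
      pow_orderOf_eq_one, one_zpow]) hy1
  have heq : zpowers y = zpowers e :=
    eq_of_le_of_card_ge (zpowers_le.mpr hy) (by rw [Nat.card_zpowers, Nat.card_zpowers, hyo, he])
  obtain ⟨j, hj⟩ := heq ▸ mem_zpowers e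
  exact h (hj ▸ hgy.zpow_right j)

theorem exists_fix_noncyclic {A W : Subgroup G} [IsMulCommutative A] (hA : ¬ IsCyclic A)
    (hAW : A ≤ normalizer (W : Set G)) (hcop : (Nat.card A).Coprime (Nat.card W)) (hW : W ≠ ⊥) :
    ∃ x ∈ A, x ≠ 1 ∧ ∃ w ∈ W, w ≠ 1 ∧ Commute x w := by
  by_contra hne
  refine hW (le_bot_iff.mp ((Coprime.fixedGen_eq hA hAW hcop).ge.trans ?_))
  refine iSup₂_le fun x hx w hw => ?_
  rw [mem_bot]
  by_contra hw1
  exact hne ⟨x, hx.1, hx.2, w, hw.1, hw1,
    (mem_centralizer_singleton_iff.mp hw.2).symm⟩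

/-- A noncyclic elementary group normalising a subgroup of another prime order has a nontrivial
element centralizing it. -/
theorem exists_centralizing (hr : r.Prime) (hs : s.Prime) (hne : s ≠ r) {E : Subgroup G}
    (hE : Cfsg.IsElementaryAbelian s E) (hnc : ¬ IsCyclic E) {e : G} (he : orderOf e = r)
    (hEe : E ≤ normalizer (zpowers e : Set G)) :
    ∃ f ∈ E, f ≠ 1 ∧ orderOf f = s ∧ Commute f e := by
  haveI := hE.1
  obtain ⟨f, hf, hf1, w, hw, hw1, hfw⟩ := exists_fix_noncyclic hnc hEe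
    (coprime_card hs hr hne (isPGroup_of_elem hE) (isPGroup_zpowers hr he))
    (by rw [Ne, zpowers_eq_bot]; exact fun e1 => hr.ne_one (by rw [← he, e1, orderOf_one]))
  exact ⟨f, hf, hf1, orderOf_of_mem_elem hs hE hf hf1,
    by_contra fun h => hw1 (eq_one_of_moves hr he h hw hfw)⟩

/-- An element of prime order fixes a point of `V` if it acts without fixed points, modulo the
kernel, on a subgroup acting nontrivially. -/
theorem exists_fixed (hr : r.Prime) (hp : p.Prime) (hpr : p ≠ r) {e : G} (he : orderOf e = r)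
    {Y V : Subgroup G} (hV : IsPGroup p V) (hVY : (Nat.card V).Coprime (Nat.card Y))
    (hYr : (Nat.card Y).Coprime r) (heY : e ∈ normalizer (Y : Set G))
    (heV : e ∈ normalizer (V : Set G)) (hYV : Y ≤ normalizer (V : Set G))
    (hfpf : ∀ y ∈ Y, Commute e y → y ∈ centralizer (V : Set G))
    (hnc : ¬ Y ≤ centralizer (V : Set G)) : ∃ v ∈ V, v ≠ 1 ∧ Commute e v := by
  haveI := Fact.mk hp
  refine exists_fixed_of_rel hr.pos (he ▸ pow_orderOf_eq_one e) heY ?_
    (Coprime.isSolvable_of_isPGroup hV) (coprime_card_prime hp hr hpr hV) hVY hYr heV hYV hnc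
  intro i hi0 hir y hy hey
  refine hfpf y hy ?_
  obtain ⟨m, hm⟩ := Nat.exists_mul_mod_eq_one_of_coprime
    ((hr.coprime_iff_not_dvd.mpr (Nat.not_dvd_of_pos_of_lt hi0 hir)).symm) hr.one_lt
  have h4 := hey.pow_left m
  rwa [← pow_mul, ← pow_mod_orderOf, he, hm.2, pow_one] at h4

theorem centralizer_zpowers_fixed (hr : r.Prime) {e : G} (he : orderOf e = r) {g : G}
    (hmv : ¬ Commute g e) {V : Subgroup G} :
    ∀ y ∈ zpowers e, Commute g y → y ∈ centralizer (V : Set G) := fun y hy h => by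
  rw [eq_one_of_moves hr he hmv hy h]
  exact one_mem _

theorem zpowers_not_le_centralizer {V : Subgroup G} {e v : G} (hv : v ∈ V) (h : ¬ Commute e v) :
    ¬ zpowers e ≤ centralizer (V : Set G) := fun hle =>
  h (mem_centralizer_iff.mp (hle (mem_zpowers e)) v hv).symm

/-- A nontrivial normalised subgroup contains a nontrivial normalised elementary one. -/
theorem exists_normal_elem [Group.IsSolvable G] {K N : Subgroup G} (hNK : N ≤ K)
    (hKN : K ≤ normalizer (N : Set G)) (hN : N ≠ ⊥) :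
    ∃ L ≤ N, K ≤ normalizer (L : Set G) ∧ L ≠ ⊥ ∧
      ∃ l : ℕ, l.Prime ∧ l ∣ Nat.card N ∧ Cfsg.IsElementaryAbelian l L := by
  haveI : (N.subgroupOf K).Normal := (normal_subgroupOf_iff_le_normalizer hNK).mpr hKN
  have hne : N.subgroupOf K ≠ ⊥ := by
    rw [Ne, subgroupOf_eq_bot]
    exact fun h => hN (h.eq_bot_of_le hNK)
  obtain ⟨M, hMn, hMN, hM, hmin⟩ := Hall.exists_minimal_normal (N.subgroupOf K) hne
  obtain ⟨l, hl, hdvd, -, hel⟩ := Hall.minimal_normal_isElementaryAbelian hM hmin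
  have hle : M.map K.subtype ≤ N := (map_mono hMN).trans (map_comap_le _ _)
  refine ⟨M.map K.subtype, hle, ?_, ?_, l, hl,
    (hdvd.trans (card_subtype K M).symm.dvd).trans (card_dvd_of_le hle), ?_⟩
  · exact le_normalizer_of_normal_subgroupOf
      (hK := by rw [subgroupOf, comap_map_eq_self_of_injective K.subtype_injective]; exact hMn)
      (map_subtype_le M)
  · rwa [Ne, map_eq_bot_iff_of_injective _ K.subtype_injective]
  · haveI := hel.1
    refine ⟨⟨⟨?_⟩⟩, ?_⟩
    · rintro ⟨_, x, hx, rfl⟩ ⟨_, y, hy, rfl⟩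
      exact Subtype.ext ((commute_of_mem_elem hel hx hy).map K.subtype).eq
    · rintro _ ⟨x, hx, rfl⟩
      exact congrArg Subtype.val (hel.2 x hx)

/-- Elementary noncyclic, or with a generator of prime order. -/
theorem elem_cases (hr : r.Prime) {L : Subgroup G} (hL : Cfsg.IsElementaryAbelian r L)
    (hne : L ≠ ⊥) : ¬ IsCyclic L ∨ ∃ e ∈ L, orderOf e = r ∧ L = zpowers e := by
  by_cases h : IsCyclic L
  · obtain ⟨⟨e, he⟩, hgen⟩ := h.exists_generator
    have hle : L = zpowers e := by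
      refine le_antisymm (fun x hx => ?_) (zpowers_le.mpr he)
      obtain ⟨k, hk⟩ := hgen ⟨x, hx⟩
      exact ⟨k, congrArg Subtype.val hk⟩
    refine Or.inr ⟨e, he, orderOf_of_mem_elem hr hL he fun e1 => hne ?_, hle⟩
    rw [hle, e1, zpowers_one_eq_bot]
  · exact Or.inl h

/-- The `r`-core of a subgroup. -/
def coreIn (r : ℕ) (K : Subgroup G) : Subgroup G := (Cfsg.pCore r K).map K.subtype

theorem coreIn_le (r : ℕ) (K : Subgroup G) : coreIn r K ≤ K := map_subtype_le _

theorem coreIn_isPGroup (r : ℕ) (K : Subgroup G) : IsPGroup r (coreIn r K) :=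
  (Cores.pCore_isPGroup r).map _

theorem le_normalizer_coreIn (r : ℕ) (K : Subgroup G) :
    K ≤ normalizer (coreIn r K : Set G) :=
  le_normalizer_of_normal_subgroupOf
    (hK := by
      rw [coreIn, subgroupOf, comap_map_eq_self_of_injective K.subtype_injective]
      infer_instance)
    (map_subtype_le _)

theorem le_coreIn {K N : Subgroup G} (hNK : N ≤ K) (hKN : K ≤ normalizer (N : Set G))
    (hN : IsPGroup r N) : N ≤ coreIn r K := by
  haveI : (N.subgroupOf K).Normal := (normal_subgroupOf_iff_le_normalizer hNK).mpr hKN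
  have h := map_mono (f := K.subtype)
    (Cores.le_pCore (N := N.subgroupOf K) (hN.comap_of_injective _ K.subtype_injective))
  rwa [subgroupOf, map_comap_eq, range_subtype, inf_of_le_right hNK] at h

theorem coreIn_ne_bot (r : ℕ) {K N : Subgroup G} (hNK : N ≤ K) (hKN : K ≤ normalizer (N : Set G))
    (hN : IsPGroup r N) (hne : N ≠ ⊥) : coreIn r K ≠ ⊥ := fun h =>
  hne (le_bot_iff.mp (h ▸ le_coreIn hNK hKN hN))

theorem exists_coreIn_ne_bot [Group.IsSolvable G] {K : Subgroup G} (hK : K ≠ ⊥) :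
    ∃ l : ℕ, l.Prime ∧ l ∣ Nat.card K ∧ coreIn l K ≠ ⊥ := by
  obtain ⟨L, hL, hKL, hne, l, hl, hd, hel⟩ := exists_normal_elem le_rfl le_normalizer hK
  exact ⟨l, hl, hd, coreIn_ne_bot l hL hKL (isPGroup_of_elem hel) hne⟩

/-- An `r`-element centralizing the cores of the other primes and the `r`-core lies in it. -/
theorem mem_coreIn_of_centralizes [Group.IsSolvable G] [hr : Fact r.Prime] {K : Subgroup G}
    {x : G} (hx : x ∈ K) (hxr : ∃ k : ℕ, x ^ r ^ k = 1)
    (h : ∀ l : ℕ, l.Prime → l ∣ Nat.card K → ∀ y ∈ coreIn l K, Commute x y) :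
    x ∈ coreIn r K := by
  let x' : K := ⟨x, hx⟩
  have hxF : x' ∈ Cfsg.fittingSubgroup K := by
    refine Cores.centralizer_fittingSubgroup_le ?_
    have hle : Cfsg.fittingSubgroup K ≤ centralizer ({x'} : Set K) := by
      rw [Cores.fittingSubgroup_eq_iSup]
      refine iSup_le fun l y hy => mem_centralizer_singleton_iff.mpr (Subtype.ext ?_)
      exact (h l (Nat.prime_of_mem_primeFactors l.2) (Nat.dvd_of_mem_primeFactors l.2) y
        ⟨y, hy, rfl⟩).symm.eq
    exact mem_centralizer_iff.mpr fun y hy => mem_centralizer_singleton_iff.mp (hle hy)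
  haveI := Cores.fittingSubgroup_isNilpotent (G := K)
  set F := Cfsg.fittingSubgroup K
  let y : F := ⟨x', hxF⟩
  obtain ⟨k, hk⟩ := hxr
  have hyp : IsPGroup r (zpowers y) := by
    have hy : y ^ r ^ k = 1 := Subtype.ext (Subtype.ext hk)
    obtain ⟨j, -, hj⟩ := (Nat.dvd_prime_pow hr.out).mp (orderOf_dvd_of_pow_eq_one hy)
    exact IsPGroup.of_card (n := j) (by rw [Nat.card_zpowers, hj])
  obtain ⟨P, hP⟩ := hyp.exists_le_sylow
  haveI : (P : Subgroup F).Characteristic := P.characteristic_of_normal inferInstance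
  have h1 : x' ∈ Cfsg.pCore r K :=
    Cores.le_pCore (N := (P : Subgroup F).map F.subtype) (P.isPGroup'.map _)
      ⟨y, hP (mem_zpowers y), rfl⟩
  exact ⟨x', h1, rfl⟩

/-- When only one core is nontrivial it contains its centralizer. -/
theorem inf_centralizer_coreIn_le [Group.IsSolvable G] {K : Subgroup G}
    (h : ∀ l : ℕ, l.Prime → l ∣ Nat.card K → l ≠ r → coreIn l K = ⊥) :
    K ⊓ centralizer (coreIn r K : Set G) ≤ coreIn r K := by
  rintro x ⟨hx, hxc⟩
  have hF : Cfsg.fittingSubgroup K ≤ Cfsg.pCore r K := by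
    rw [Cores.fittingSubgroup_eq_iSup]
    refine iSup_le fun l => ?_
    by_cases hl : (l : ℕ) = r
    · rw [hl]
    · have h0 := h l (Nat.prime_of_mem_primeFactors l.2) (Nat.dvd_of_mem_primeFactors l.2) hl
      rw [coreIn, map_eq_bot_iff_of_injective _ K.subtype_injective] at h0
      rw [h0]; exact bot_le
  have hc : (⟨x, hx⟩ : K) ∈ centralizer (Cfsg.fittingSubgroup K : Set K) :=
    mem_centralizer_iff.mpr fun y hy =>
      Subtype.ext (mem_centralizer_iff.mp hxc y ⟨y, hF hy, rfl⟩)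
  exact ⟨⟨x, hx⟩, hF (Cores.centralizer_fittingSubgroup_le hc), rfl⟩

/-- A Hall subgroup inside a Hall subgroup. -/
theorem exists_hall_le [Group.IsSolvable G] {π τ : Set ℕ} (hτ : τ ⊆ π) {H : Subgroup G}
    (hH : Cfsg.IsPiHall π H) : ∃ K ≤ H, Cfsg.IsPiHall τ K := by
  obtain ⟨K, hK⟩ := Hall.exists_hall τ H
  refine ⟨K.map H.subtype, map_subtype_le _, fun l hl hd => hK.1 l hl (by rwa [card_subtype] at hd),
    fun l hl hlτ hd => ?_⟩
  rw [index_map_subtype] at hd
  rcases hl.dvd_mul.mp hd with h | h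
  · exact hK.2 l hl hlτ h
  · exact hH.2 l hl (hτ hlτ) h

theorem exists_conj_le [Group.IsSolvable G] {π : Set ℕ} {K : Subgroup G}
    (hK : Cfsg.IsPiHall π K) (hl : a.Prime) (ha : a ∈ π) {U : Subgroup G} (hU : IsPGroup a U) :
    ∃ g : G, ∀ x ∈ U, g * x * g⁻¹ ∈ K := by
  haveI := Fact.mk hl
  have hU' : Cores.IsPi π U := by
    intro l hlp hd
    obtain ⟨k, hk⟩ := IsPGroup.iff_card.mp hU
    rw [hk] at hd
    exact (Nat.prime_dvd_prime_iff_eq hlp hl).mp (hlp.dvd_of_dvd_pow hd) ▸ ha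
  obtain ⟨g, hg⟩ := Hall.exists_conj_le_hall hK hU'
  refine ⟨g⁻¹, fun x hx => ?_⟩
  have := Coprime.mem_conj_smul.mp (hg hx)
  simpa using this

/-- Inside a subgroup, elements of prime order have conjugates in a Hall subgroup. -/
theorem exists_conj_mem [Group.IsSolvable G] {π : Set ℕ} {K H : Subgroup G} (hKH : K ≤ H)
    (hK : Cfsg.IsPiHall π K) (ha : a.Prime) (haπ : a ∈ π) {x : G} (hx : x ∈ H)
    (hxo : orderOf x = a) : ∃ g ∈ H, g * x * g⁻¹ ∈ K := by
  have hK' : Cfsg.IsPiHall π (K.subgroupOf H) := by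
    refine ⟨fun l hl hd => hK.1 l hl (by rwa [Nat.card_congr (subgroupOfEquivOfLe hKH).toEquiv] at hd),
      fun l hl hlπ hd => hK.2 l hl hlπ (hd.trans ?_)⟩
    exact relIndex_dvd_index_of_le hKH
  obtain ⟨g, hg⟩ := exists_conj_le hK' ha haπ
    (isPGroup_zpowers ha (x := (⟨x, hx⟩ : H)) (by rw [orderOf_mk, hxo]))
  exact ⟨g, g.2, hg _ (mem_zpowers _)⟩

namespace Ctx

variable {σ : Finset ℕ} (h : Ctx G σ)
include h

theorem no_common (ha : a ∈ σ) (hb : b ∈ σ) (hc : c ∈ σ) (hab : a ≠ b) (hbc : b ≠ c) (hac : a ≠ c)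
    {x y w : G} {W : Subgroup G} (hx : orderOf x = a) (hy : orderOf y = b) (hW : IsPGroup c W)
    (hw : w ∈ W) (hxy : Commute x y) (hxw : Commute x w) (hyw : Commute y w) : w = 1 := by
  by_contra hw1
  obtain ⟨n, hn, -⟩ := exists_pow_orderOf (h.prime c hc) hW hw hw1
  exact h.triple a ha b hb c hc hab hbc hac x y (w ^ n) hx hy hn hxy (hyw.pow_right n)
    (hxw.pow_right n)

theorem triple_group (ha : a ∈ σ) (hb : b ∈ σ) (hc : c ∈ σ) (hab : a ≠ b) (hbc : b ≠ c)
    (hac : a ≠ c) {x : G} (hx : orderOf x = a) {E W : Subgroup G}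
    (hE : Cfsg.IsElementaryAbelian b E) (hnc : ¬ IsCyclic E) (hxE : ∀ y ∈ E, Commute x y)
    (hW : IsPGroup c W) (hW1 : W ≠ ⊥) (hEW : E ≤ normalizer (W : Set G))
    (hxW : ∀ w ∈ W, Commute x w) : False := by
  haveI := hE.1
  obtain ⟨y, hy, hy1, w, hw, hw1, hyw⟩ := exists_fix_noncyclic hnc hEW
    (coprime_card (h.prime b hb) (h.prime c hc) hbc (isPGroup_of_elem hE) hW) hW1
  exact hw1 (h.no_common ha hb hc hab hbc hac hx (orderOf_of_mem_elem (h.prime b hb) hE hy hy1)
    hW hw (hxE y hy) (hxW w hw) hyw)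

theorem exists_elem_le [Group.IsSolvable G] {π : Set ℕ} {K : Subgroup G}
    (hK : Cfsg.IsPiHall π K) (ha : a ∈ σ) (haπ : a ∈ π) :
    ∃ E ≤ K, Cfsg.IsElementaryAbelian a E ∧ ¬ IsCyclic E := by
  obtain ⟨E, hE, hnc⟩ := h.rank a ha
  obtain ⟨g, hg⟩ := exists_conj_le hK (h.prime a ha) haπ (isPGroup_of_elem hE)
  refine ⟨E.map (MulAut.conj g).toMonoidHom, by rintro _ ⟨x, hx, rfl⟩; exact hg x hx,
    ⟨?_, ?_⟩, fun hc => hnc ?_⟩
  · refine ⟨⟨?_⟩⟩
    rintro ⟨_, x, hx, rfl⟩ ⟨_, y, hy, rfl⟩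
    exact Subtype.ext ((commute_of_mem_elem hE hx hy).map (MulAut.conj g).toMonoidHom).eq
  · rintro _ ⟨x, hx, rfl⟩
    rw [← map_pow, hE.2 x hx, map_one]
  · exact isCyclic_of_surjective
      (equivMapOfInjective E (MulAut.conj g).toMonoidHom (MulAut.conj g).injective).symm.toMonoidHom
      (equivMapOfInjective E (MulAut.conj g).toMonoidHom (MulAut.conj g).injective).symm.surjective

theorem exists_pair_le [Group.IsSolvable G] {π : Set ℕ} {K : Subgroup G}
    (hK : Cfsg.IsPiHall π K) (ha : a ∈ σ) (hb : b ∈ σ) (hab : a ≠ b) (haπ : a ∈ π) (hbπ : b ∈ π) :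
    ∃ x ∈ K, ∃ y ∈ K, orderOf x = a ∧ orderOf y = b ∧ Commute x y := by
  obtain ⟨x, y, hx, hy, hxy⟩ := h.pair a ha b hb hab
  have hU : Cores.IsPi π (zpowers (x * y)) := by
    intro l hl hd
    rw [Nat.card_zpowers, hxy.orderOf_mul_eq_mul_orderOf_of_coprime (by
      rw [hx, hy]; exact (Nat.coprime_primes (h.prime a ha) (h.prime b hb)).mpr hab), hx, hy] at hd
    rcases hl.dvd_mul.mp hd with h1 | h1
    · exact (Nat.prime_dvd_prime_iff_eq hl (h.prime a ha)).mp h1 ▸ haπ
    · exact (Nat.prime_dvd_prime_iff_eq hl (h.prime b hb)).mp h1 ▸ hbπ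
  obtain ⟨g, hg⟩ := Hall.exists_conj_le_hall hK hU
  have hmem : ∀ z ∈ zpowers (x * y), g⁻¹ * z * g ∈ K := fun z hz => by
    have := Coprime.mem_conj_smul.mp (hg hz)
    simpa using this
  obtain ⟨m, hm⟩ := exists_pow_eq_self_of_coprime (n := b) (x := x)
    (by rw [hx]; exact (Nat.coprime_primes (h.prime b hb) (h.prime a ha)).mpr hab.symm)
  have hxz : x ∈ zpowers (x * y) := by
    have h1 := zpow_mem (pow_mem (mem_zpowers (x * y)) b) (m : ℤ)
    rwa [hxy.mul_pow, ← hy, pow_orderOf_eq_one, mul_one, hy, zpow_natCast, hm] at h1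
  have hyz : y ∈ zpowers (x * y) := by
    have h1 := mul_mem (inv_mem hxz) (mem_zpowers (x * y))
    rwa [inv_mul_cancel_left] at h1
  refine ⟨_, hmem x hxz, _, hmem y hyz, ?_, ?_, ?_⟩
  · simpa using (orderOf_conj g⁻¹ x).trans hx
  · simpa using (orderOf_conj g⁻¹ y).trans hy
  · simpa using (hxy.map (MulAut.conj g⁻¹).toMonoidHom)

end Ctx

end Finite

end Cfsg.Agent.Components.FourPrimes
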