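import Cfsg.Agent.Lib.Components.FourPrimes.OneCore
import Cfsg.Agent.OddLocal.FrobeniusFixGroup

/-! A normal subgroup of prime order in a Hall `{q, r, s}`-subgroup is impossible. -/

set_option autoImplicit false
set_option linter.all false

namespace Cfsg.Agent.Components.FourPrimes

open Subgroup
open scoped commutatorElement Pointwise

variable {G : Type*} [Group G] [Finite G] [Group.IsSolvable G] {σ : Finset ℕ} {p q r s : ℕ}
  {P H K : Subgroup G} {y : G}

theorem exists_conj_subgroup {π : Set ℕ} {K H : Subgroup G} (hKH : K ≤ H)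
    (hK : Cfsg.IsPiHall π K) {l : ℕ} (hl : l.Prime) (hlπ : l ∈ π) {U : Subgroup G} (hUH : U ≤ H)
    (hU : IsPGroup l U) : ∃ g ∈ H, ∀ x ∈ U, g * x * g⁻¹ ∈ K := by
  have hK' : Cfsg.IsPiHall π (K.subgroupOf H) :=
    ⟨fun m hm hd => hK.1 m hm (by rwa [Nat.card_congr (subgroupOfEquivOfLe hKH).toEquiv] at hd),
      fun m hm hmπ hd => hK.2 m hm hmπ (hd.trans (relIndex_dvd_index_of_le hKH))⟩
  obtain ⟨g, hg⟩ := exists_conj_le hK' hl hlπ
    (hU.comap_of_injective H.subtype H.subtype_injective : IsPGroup l (U.subgroupOf H))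
  exact ⟨g, g.2, fun x hx => hg ⟨x, hUH hx⟩ hx⟩

/-- A normalised `l`-subgroup lies in each Hall subgroup for a set containing `l`. -/
theorem normal_le_hall {π : Set ℕ} {K H : Subgroup G} (hKH : K ≤ H)
    (hK : Cfsg.IsPiHall π K) {l : ℕ} (hl : l.Prime) (hlπ : l ∈ π) {U : Subgroup G} (hUH : U ≤ H)
    (hU : IsPGroup l U) (hHU : H ≤ normalizer (U : Set G)) : U ≤ K := by
  obtain ⟨g, hg, h⟩ := exists_conj_subgroup hKH hK hl hlπ hUH hU
  intro x hx
  have hx' : g⁻¹ * x * g ∈ U := (mem_normalizer_iff''.mp (hHU hg) x).mp hx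
  simpa [mul_assoc] using h _ hx'

/-- Two subgroups of coprime order normalising each other commute. -/
theorem commute_of_coprime_normal {M N : Subgroup G}
    (hcop : (Nat.card M).Coprime (Nat.card N)) (hMN : M ≤ normalizer (N : Set G))
    (hNM : N ≤ normalizer (M : Set G)) {x z : G} (hx : x ∈ M) (hz : z ∈ N) : Commute x z := by
  have h1 : x * z * x⁻¹ * z⁻¹ ∈ M ⊓ N := mem_inf.mpr
    ⟨by
      have := mul_mem hx ((mem_normalizer_iff.mp (hNM hz) _).mp (inv_mem hx))
      simpa [mul_assoc] using this,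
    mul_mem ((mem_normalizer_iff.mp (hMN hx) z).mp hz) (inv_mem hz)⟩
  rw [card_eq_one.mp (Nat.eq_one_of_dvd_coprimes hcop (card_dvd_of_le inf_le_left)
    (card_dvd_of_le inf_le_right)), mem_bot, mul_inv_eq_one, mul_inv_eq_iff_eq_mul] at h1
  exact h1

/-- The setting of a normal subgroup of order `r`. -/
structure Central (σ : Finset ℕ) (p q r s : ℕ) (P H K : Subgroup G) (y : G) : Prop where
  one : OneCore σ p q r s P
  hallH : Cfsg.IsPiHall ({q, r, s} : Set ℕ) H
  hallK : Cfsg.IsPiHall ({q, s} : Set ℕ) K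
  hKH : K ≤ H
  hy : y ∈ H
  hyo : orderOf y = r
  hHy : H ≤ normalizer (zpowers y : Set G)

namespace Central

variable (h : Central σ p q r s P H K y)
include h

theorem swap : Central σ p s r q P H K y where
  one := h.one.swap_qr.swap_rs.swap_qr
  hallH := by
    have h2 := h.hallH
    rwa [show ({q, r, s} : Set ℕ) = {s, r, q} by ext; simp; tauto] at h2
  hallK := Set.pair_comm q s ▸ h.hallK
  hKH := h.hKH
  hy := h.hy
  hyo := h.hyo
  hHy := h.hHy

theorem y_ne : y ≠ 1 := fun e => h.one.rp.ne_one (by rw [← h.hyo, e, orderOf_one])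

theorem no_qs {x z : G} (hx : orderOf x = q) (hz : orderOf z = s) (hxy : Commute x y)
    (hzy : Commute z y) (hxz : Commute x z) : False :=
  h.one.ctx.triple q h.one.hq s h.one.hs r h.one.hr h.one.hqs h.one.hrs.symm h.one.hqr
    x z y hx hz h.hyo hxz hzy hxy

/-- Every noncyclic elementary subgroup of `H` meets the centralizer of `y`. -/
theorem exists_inner {l : ℕ} (hl : l.Prime) (hlr : l ≠ r) {E : Subgroup G} (hEH : E ≤ H)
    (hE : Cfsg.IsElementaryAbelian l E) (hnc : ¬ IsCyclic E) :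
    ∃ f ∈ E, orderOf f = l ∧ Commute f y := by
  obtain ⟨f, hf, -, hfo, hfy⟩ := exists_centralizing h.one.rp hl hlr hE hnc h.hyo (hEH.trans h.hHy)
  exact ⟨f, hf, hfo, hfy⟩

theorem exists_inner_K : ∃ d ∈ K, orderOf d = s ∧ Commute d y := by
  obtain ⟨E, hEK, hE, hnc⟩ := h.one.ctx.exists_elem_le h.hallK h.one.hs (by simp)
  obtain ⟨f, hf, hfo, hfy⟩ := h.exists_inner h.one.sp h.one.hrs.symm (hEK.trans h.hKH) hE hnc
  exact ⟨f, hEK hf, hfo, hfy⟩

theorem r_inner {g : G} (hg : g ∈ H) (hgo : orderOf g = r) : Commute g y :=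
  commute_of_same_prime h.one.rp h.hyo (h.hHy hg) (isPGroup_zpowers h.one.rp hgo) (mem_zpowers g)

theorem conj_inner {g x : G} (hg : g ∈ H) (hxy : Commute x y) : Commute (g * x * g⁻¹) y := by
  obtain ⟨i, hi⟩ := mem_zpowers_iff.mp
    ((mem_normalizer_iff''.mp (h.hHy hg) y).mp (mem_zpowers y))
  have h1 := ((hxy.zpow_right i)).map (MulAut.conj g).toMonoidHom
  rw [hi] at h1
  simpa [mul_assoc] using h1

theorem C_normalized : K ≤ normalizer ((K ⊓ centralizer (zpowers y : Set G) : Subgroup G) : Set G) :=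
  fun g hg => mem_normalizer_inf_centralizer (le_normalizer hg) (h.hHy (h.hKH hg))

/-- `y` acts without fixed points on `P`. -/
theorem y_fpf {v : G} (hv : v ∈ P) (hyv : Commute y v) : v = 1 := by
  by_contra hv1
  have hfix : Fix P y := ⟨v, hv, hv1, hyv⟩
  set C := K ⊓ centralizer (zpowers y : Set G) with hC
  obtain ⟨d₀, hd₀, hd₀o, hd₀y⟩ := h.exists_inner_K
  have hne : C ≠ ⊥ := fun hb => h.one.sp.ne_one (by
    have := (eq_bot_iff_forall C).mp hb d₀ ⟨hd₀, mem_centralizer_zpowers hd₀y.symm⟩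
    rw [← hd₀o, this, orderOf_one])
  obtain ⟨l, hl, hd, hLne⟩ := exists_coreIn_ne_bot hne
  have key : ∀ {q' s' : ℕ}, Central σ p q' r s' P H K y → coreIn q' C ≠ ⊥ → False := by
    intro q' s' k hne
    have hCy : ∀ x ∈ C, Commute x y := fun x hx =>
      (mem_centralizer_iff.mp hx.2 y (mem_zpowers y)).symm
    have hu := k.one.fix_uniq k.one.hr k.one.hq k.one.hpr.symm k.one.hpq.symm k.one.hqr.symm
      k.hyo hfix (H := coreIn q' C) fun x hx => (hCy x (coreIn_le q' C hx)).symm
    obtain ⟨u, hu', huo, -, huN⟩ := uniq_prime k.one.qp (coreIn_isPGroup q' C) hne hu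
    obtain ⟨d, hdK, hdo, hdy⟩ := k.exists_inner_K
    have hdC : d ∈ C := ⟨hdK, mem_centralizer_zpowers hdy.symm⟩
    have huy := hCy u (coreIn_le q' C hu')
    by_cases hdu : Commute d u
    · exact k.no_qs huo hdo huy hdy hdu.symm
    obtain ⟨w, hw, hw1, hyw, hdw⟩ := k.one.fix_relative k.one.hs k.one.hq k.one.hps.symm
      k.one.hpq.symm k.one.hqs.symm huo hdo (huN (le_normalizer_coreIn q' C hdC)) hdu huy.symm
      hdy.symm hfix (fun v hv hyv huv => k.one.not_fix_pair k.one.hr k.one.hq k.one.hpr.symm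
        k.one.hpq.symm k.one.hqr.symm k.hyo huo huy.symm hv hyv huv)
    exact hw1 (k.one.not_fix_pair k.one.hr k.one.hs k.one.hpr.symm k.one.hps.symm k.one.hrs k.hyo
      hdo hdy.symm hw hyw hdw)
  rcases (show l = q ∨ l = s by
    simpa using h.hallK.1 l hl (hd.trans (card_dvd_of_le inf_le_left))) with rfl | rfl
  · exact key h hLne
  · exact key h.swap hLne

section Core

variable (hU : coreIn q (K ⊓ centralizer (zpowers y : Set G)) ≠ ⊥)
include hU

theorem core_fpf {d : G} (hdo : orderOf d = s) (hdy : Commute d y) {u : G}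
    (hu : u ∈ coreIn q (K ⊓ centralizer (zpowers y : Set G))) (hdu : Commute d u) : u = 1 := by
  by_contra hu1
  obtain ⟨n, hn, hnU⟩ := exists_pow_orderOf h.one.qp (coreIn_isPGroup q _) hu hu1
  exact h.no_qs hn hdo (mem_centralizer_iff.mp (coreIn_le q _ hnU).2 y (mem_zpowers y)).symm hdy
    (hdu.pow_right n).symm

/-- The elements of order `s` centralizing `y` fix points of `P`. -/
theorem inner_fix {d : G} (hd : d ∈ H) (hdo : orderOf d = s) (hdy : Commute d y) : Fix P d := by
  obtain ⟨g, hg, hgK⟩ := exists_conj_mem h.hKH h.hallK h.one.sp (by simp) hd hdo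
  set d' := g * d * g⁻¹
  have hd'o : orderOf d' = s := (orderOf_conj g d).trans hdo
  have hd'y : Commute d' y := h.conj_inner hg hdy
  obtain ⟨v, hv, hv1, hdv⟩ := h.one.fix_of_fpf h.one.hs h.one.hq h.one.hps.symm h.one.hpq.symm
    h.one.hqs.symm hd'o (coreIn_isPGroup q _) hU
    (le_normalizer_coreIn q _ ⟨hgK, mem_centralizer_zpowers hd'y.symm⟩)
    (fun u hu hdu => h.core_fpf hU hd'o hd'y hu hdu)
  refine ⟨g⁻¹ * v * g,
    (mem_normalizer_iff''.mp (h.one.le_normalizer H hg) v).mp hv, fun h1 => hv1 ?_, ?_⟩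
  · exact (conj_eq_one_iff (a := g⁻¹)).mp (by rwa [inv_inv])
  · have := hdv.map (MulAut.conj g⁻¹).toMonoidHom
    simpa [d', mul_assoc] using this

/-- They commute with no element of order `q`. -/
theorem inner_s_alone {d w : G} (hd : d ∈ H) (hdo : orderOf d = s) (hdy : Commute d y) (hw : w ∈ H)
    (hwo : orderOf w = q) (hdw : Commute d w) : False := by
  by_cases hwy : Commute w y
  · exact h.no_qs hwo hdo hwy hdy hdw.symm
  obtain ⟨v, hv, hv1, hdv, hwv⟩ := h.one.fix_relative h.one.hq h.one.hr h.one.hpq.symm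
    h.one.hpr.symm h.one.hqr h.hyo hwo (h.hHy hw) hwy hdy hdw (h.inner_fix hU hd hdo hdy)
    (fun v hv _ hyv => h.y_fpf hv hyv)
  exact hv1 (h.one.not_fix_pair h.one.hs h.one.hq h.one.hps.symm h.one.hpq.symm h.one.hqs.symm
    hdo hwo hdw hv hdv hwv)

theorem dvd_r : s ∣ r - 1 := by
  obtain ⟨u, hu, v, hv, huo, hvo, huv⟩ := h.one.ctx.exists_pair_le h.hallH h.one.hq h.one.hs
    h.one.hqs (by simp) (by simp)
  by_contra hnd
  exact h.inner_s_alone hU hv hvo (commute_of_not_dvd h.one.rp h.one.sp h.hyo (h.hHy hv) hvo hnd)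
    hu huo huv.symm

theorem arith : r ≠ 2 ∧ ¬ r ∣ s - 1 := by
  have h1 := h.one.sp.two_le
  have h2 := h.one.rp.two_le
  have h3 := Nat.le_of_dvd (by omega) (h.dvd_r hU)
  refine ⟨by omega, fun hd => ?_⟩
  have := Nat.le_of_dvd (by omega) hd
  omega

theorem inner_uniq : Uniq s (H ⊓ centralizer (zpowers y : Set G)) := by
  by_contra hnu
  obtain ⟨E, hEH, hE, hnc⟩ := exists_elem_of_not_uniq h.one.sp hnu
  obtain ⟨g, hg, hgK⟩ := exists_conj_subgroup h.hKH h.hallK h.one.sp (by simp)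
    (hEH.trans inf_le_left) (isPGroup_of_elem hE)
  set U := coreIn q (K ⊓ centralizer (zpowers y : Set G)) with hUdef
  set E' := E.map (MulAut.conj g).toMonoidHom
  have hE' : Cfsg.IsElementaryAbelian s E' := by
    refine ⟨⟨⟨?_⟩⟩, ?_⟩
    · rintro ⟨_, x, hx, rfl⟩ ⟨_, z, hz, rfl⟩
      exact Subtype.ext ((commute_of_mem_elem hE hx hz).map (MulAut.conj g).toMonoidHom).eq
    · rintro _ ⟨x, hx, rfl⟩
      rw [← map_pow, hE.2 x hx, map_one]
  have hE'nc : ¬ IsCyclic E' := fun hc => hnc (isCyclic_of_surjective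
    (equivMapOfInjective E (MulAut.conj g).toMonoidHom (MulAut.conj g).injective).symm.toMonoidHom
    (equivMapOfInjective E (MulAut.conj g).toMonoidHom (MulAut.conj g).injective).symm.surjective)
  have hy' : ∀ e ∈ E', Commute e y ∧ e ∈ K := by
    rintro _ ⟨x, hx, rfl⟩
    exact ⟨h.conj_inner hg (mem_centralizer_iff.mp (hEH hx).2 y (mem_zpowers y)).symm, hgK x hx⟩
  haveI := hE'.1
  obtain ⟨e, he, he1, u, hu, hu1, heu⟩ := exists_fix_noncyclic hE'nc
    (fun e he => le_normalizer_coreIn q _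
      (mem_inf.mpr ⟨(hy' e he).2, mem_centralizer_zpowers (hy' e he).1.symm⟩))
    (coprime_card h.one.sp h.one.qp h.one.hqs.symm (isPGroup_of_elem hE') (coreIn_isPGroup q _)) hU
  exact hu1 (h.core_fpf hU (orderOf_of_mem_elem h.one.sp hE' he he1) (hy' e he).1 hu heu)

/-- An exponent `r` subgroup detecting the action of an element of order `s` that centralizes
`y`. -/
theorem exponent_detect {R : Subgroup G} (hR : IsPGroup r R) (hRH : R ≤ H) (hyR : y ∈ R) {d : G}
    (hd : d ∈ H) (hdo : orderOf d = s) (hdy : Commute d y) (hdR : d ∈ normalizer (R : Set G))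
    (hnc : ¬ zpowers d ≤ centralizer (R : Set G)) :
    ∃ T ≤ R, ¬ Uniq r T ∧ (∀ t ∈ T, t ^ r = 1) ∧
      (∀ g ∈ H, g ∈ normalizer (R : Set G) → g ∈ normalizer (T : Set G)) ∧
      (∀ t ∈ T, Commute d t → t ∈ zpowers y) := by
  haveI := Fact.mk h.one.rp
  obtain ⟨T₀, hT₀R, hexp, hN, hdet⟩ :=
    OddLocal.FrobeniusFixGroup.exists_exponent_sub (h.arith hU).1 hR
  have hRy : ∀ x ∈ R, Commute x y := fun x hx =>
    commute_of_same_prime h.one.rp h.hyo (h.hHy (hRH hx)) hR hx
  set T := T₀ ⊔ zpowers y with hT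
  have hTR : T ≤ R := sup_le hT₀R (zpowers_le.mpr hyR)
  have hexpT : ∀ t ∈ T, t ^ r = 1 := by
    intro t ht
    obtain ⟨a, ha, b, hb, rfl⟩ := (Coprime.mem_sup_of_le_normalizer (N := T₀) (H := zpowers y)
      (zpowers_le.mpr (mem_normalizer_of_commute fun x hx => (hRy x (hT₀R hx)).symm))).mp ht
    obtain ⟨i, rfl⟩ := hb
    rw [((hRy a (hT₀R ha)).zpow_right i).mul_pow, hexp a ha, one_mul, ← zpow_natCast, ← zpow_mul,
      mul_comm, zpow_mul, zpow_natCast, ← h.hyo, pow_orderOf_eq_one, one_zpow]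
  have hfixT : ∀ t ∈ T, Commute d t → t ∈ zpowers y := by
    intro t ht hdt
    by_cases ht1 : t = 1
    · rw [ht1]; exact one_mem _
    exact h.one.fix_uniq h.one.hs h.one.hr h.one.hps.symm h.one.hpr.symm h.one.hrs.symm hdo
      (h.inner_fix hU hd hdo hdy) (H := R ⊓ centralizer (zpowers d : Set G))
      (fun x hx => mem_centralizer_iff.mp hx.2 d (mem_zpowers d)) y
      ⟨hyR, mem_centralizer_zpowers hdy⟩ t ⟨hTR ht, mem_centralizer_zpowers hdt⟩ h.hyo
      (orderOf_eq_prime (hexpT t ht) ht1) (hRy t (hTR ht)).symm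
  refine ⟨T, hTR, fun hu => hnc ?_, hexpT, fun g hg hgR => ?_, hfixT⟩
  · refine hdet _ (zpowers_le.mpr hdR) (by
      rw [Nat.card_zpowers, hdo]; exact (Nat.coprime_primes h.one.sp h.one.rp).mpr h.one.hrs.symm) ?_
    rw [zpowers_le, mem_centralizer_iff]
    intro t ht
    by_cases ht1 : t = 1
    · simp [ht1]
    obtain ⟨i, rfl⟩ := hu y (mem_sup_right (mem_zpowers y)) t (mem_sup_left ht) h.hyo
      (orderOf_eq_prime (hexp t ht) ht1) (hRy t (hT₀R ht)).symm
    exact (hdy.zpow_right i).symm.eq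
  · have h1 := mem_normalizer_iff_map_conj_eq.mp (hN hgR)
    have h2 := mem_normalizer_iff_map_conj_eq.mp (h.hHy hg)
    exact mem_normalizer_iff_map_conj_eq.mpr (by rw [hT, Subgroup.map_sup, h1, h2])

theorem absurd_of_core : False := by
  have hrp := h.one.rp
  have hsp := h.one.sp
  have hqp := h.one.qp
  haveI := Fact.mk hrp
  haveI := Fact.mk hqp
  obtain ⟨hr2, hrs'⟩ := h.arith hU
  -- the Hall `{r, s}`-subgroup
  obtain ⟨K₂, hK₂H, hK₂⟩ := exists_hall_le (π := ({q, r, s} : Set ℕ)) (τ := ({r, s} : Set ℕ))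
    (by intro x hx; simp at hx ⊢; tauto) h.hallH
  set C₂ := K₂ ⊓ centralizer (zpowers y : Set G) with hC₂
  have hC₂H : C₂ ≤ H := inf_le_left.trans hK₂H
  have hC₂y : ∀ x ∈ C₂, Commute x y := fun x hx =>
    (mem_centralizer_iff.mp hx.2 y (mem_zpowers y)).symm
  obtain ⟨Er, hErK, hEr, hErnc⟩ := h.one.ctx.exists_elem_le hK₂ h.one.hr (by simp)
  obtain ⟨Es, hEsK, hEs, hEsnc⟩ := h.one.ctx.exists_elem_le hK₂ h.one.hs (by simp)
  have hErC : Er ≤ C₂ := fun x hx => ⟨hErK hx, mem_centralizer_zpowers (by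
    by_cases hx1 : x = 1
    · rw [hx1]; exact Commute.one_right y
    · exact (h.r_inner (hK₂H (hErK hx)) (orderOf_of_mem_elem hrp hEr hx hx1)).symm)⟩
  obtain ⟨d, hdE, hdo, hdy⟩ := h.exists_inner hsp h.one.hrs.symm (hEsK.trans hK₂H) hEs hEsnc
  have hdC₂ : d ∈ C₂ := ⟨hEsK hdE, mem_centralizer_zpowers hdy.symm⟩
  have hdH : d ∈ H := hC₂H hdC₂
  have hdfix := h.inner_fix hU hdH hdo hdy
  -- its `s`-core is trivial
  have hcs : coreIn s C₂ = ⊥ := by
    by_contra hne
    have hu : Uniq s (coreIn s C₂) := (h.inner_uniq hU).mono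
      ((coreIn_le s C₂).trans (le_inf hC₂H inf_le_right))
    obtain ⟨z, hz, hzo, -, hzN⟩ := uniq_prime hsp (coreIn_isPGroup s C₂) hne hu
    have hzC := coreIn_le s C₂ hz
    refine not_uniq_of_elem hrp le_rfl hEr hErnc (h.one.fix_uniq h.one.hs h.one.hr h.one.hps.symm
      h.one.hpr.symm h.one.hrs.symm hzo (h.inner_fix hU (hC₂H hzC) hzo (hC₂y z hzC)) fun x hx => ?_)
    by_cases hx1 : x = 1
    · rw [hx1]; exact Commute.one_right z
    exact (commute_of_not_dvd hsp hrp hzo (hzN (le_normalizer_coreIn s C₂ (hErC hx)))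
      (orderOf_of_mem_elem hrp hEr hx hx1) hrs').symm
  set R₁ := coreIn r C₂ with hR₁
  set R := coreIn r H with hRdef
  have hRH := coreIn_le r H
  have hRp := coreIn_isPGroup r H
  have hHR := le_normalizer_coreIn r H
  have hyR : y ∈ R :=
    le_coreIn (zpowers_le.mpr h.hy) h.hHy (isPGroup_zpowers hrp h.hyo) (mem_zpowers y)
  have hRy : ∀ x ∈ R, Commute x y := fun x hx =>
    commute_of_same_prime hrp h.hyo (h.hHy (hRH hx)) hRp hx
  have hRC₂ : R ≤ C₂ := le_inf (normal_le_hall hK₂H hK₂ hrp (by simp) hRH hRp hHR)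
    (fun x hx => mem_centralizer_zpowers (hRy x hx).symm)
  have hRR₁ : R ≤ R₁ := le_coreIn hRC₂ (hC₂H.trans hHR) hRp
  have hdR₁ : ¬ zpowers d ≤ centralizer (R₁ : Set G) := by
    intro hle
    have hself : C₂ ⊓ centralizer (R₁ : Set G) ≤ R₁ := inf_centralizer_coreIn_le fun l hl hd hlr => by
      rcases (show l = r ∨ l = s by
        simpa using hK₂.1 l hl (hd.trans (card_dvd_of_le inf_le_left))) with rfl | rfl
      · exact absurd rfl hlr
      · exact hcs
    obtain ⟨k, hk⟩ := coreIn_isPGroup r C₂ ⟨d, hself ⟨hdC₂, hle (mem_zpowers d)⟩⟩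
    exact h.one.hrs.symm ((Nat.prime_dvd_prime_iff_eq hsp hrp).mp
      (hsp.dvd_of_dvd_pow (hdo ▸ orderOf_dvd_of_pow_eq_one (congrArg Subtype.val hk))))
  have hcsr : (Nat.card (zpowers d)).Coprime r := by
    rw [Nat.card_zpowers, hdo]; exact (Nat.coprime_primes hsp hrp).mpr h.one.hrs.symm
  by_cases hRu : Uniq r R
  · obtain ⟨T, hTR₁, hTnu, hTexp, hTN, hTfix⟩ := h.exponent_detect hU (coreIn_isPGroup r C₂)
      ((coreIn_le r C₂).trans hC₂H) (hRR₁ hyR) hdH hdo hdy (le_normalizer_coreIn r C₂ hdC₂) hdR₁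
    have hTH : T ≤ H := hTR₁.trans ((coreIn_le r C₂).trans hC₂H)
    have hTp : IsPGroup r T := (coreIn_isPGroup r C₂).to_le hTR₁
    have hTy : ∀ t ∈ T, Commute t y := fun t ht => hC₂y t (coreIn_le r C₂ (hTR₁ ht))
    have hdT : d ∈ normalizer (T : Set G) := hTN d hdH (le_normalizer_coreIn r C₂ hdC₂)
    -- `T` centralizes the `q`-core
    set Q₀ := coreIn q H
    have hQ₀p := coreIn_isPGroup q H
    have hyQ : ∀ x ∈ Q₀, Commute y x := fun x hx => commute_of_coprime_normal
      (coprime_card hrp hqp h.one.hqr.symm (isPGroup_zpowers hrp h.hyo) hQ₀p)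
      ((zpowers_le.mpr h.hy).trans (le_normalizer_coreIn q H)) ((coreIn_le q H).trans h.hHy)
      (mem_zpowers y) hx
    have hTQ : T ≤ centralizer (Q₀ : Set G) := by
      refine le_centralizer_of_rel hsp.pos (hdo ▸ pow_orderOf_eq_one d) hdT ?_
        (haveI := Fact.mk hqp; Coprime.isSolvable_of_isPGroup hQ₀p)
        (coprime_card_prime hqp hsp h.one.hqs hQ₀p) (coprime_card hqp hrp h.one.hqr hQ₀p hTp)
        (coprime_card_prime hrp hsp h.one.hrs hTp) (le_normalizer_coreIn q H hdH)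
        (hTH.trans (le_normalizer_coreIn q H)) ?_
      · intro i hi0 his t ht hit
        obtain ⟨m, hm⟩ := Nat.exists_mul_mod_eq_one_of_coprime
          ((hsp.coprime_iff_not_dvd.mpr (Nat.not_dvd_of_pos_of_lt hi0 his)).symm) hsp.one_lt
        have h4 := hit.pow_left m
        rw [← pow_mul, ← pow_mod_orderOf, hdo, hm.2, pow_one] at h4
        obtain ⟨j, rfl⟩ := hTfix t ht h4
        exact mem_centralizer_iff.mpr fun x hx => ((hyQ x hx).zpow_left j).symm.eq
      · intro x hx hdx t _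
        suffices x = 1 by rw [this]; exact Commute.one_right t
        by_contra hx1
        obtain ⟨n, hn, hnQ⟩ := exists_pow_orderOf hqp hQ₀p hx hx1
        exact h.no_qs hn hdo (hyQ _ hnQ).symm hdy (hdx.pow_right n).symm
    -- the `s`-core is trivial
    have hsH : coreIn s H = ⊥ := by
      refine le_bot_iff.mp (hcs ▸ le_coreIn ?_ (hC₂H.trans (le_normalizer_coreIn s H))
        (coreIn_isPGroup s H))
      refine le_inf (normal_le_hall hK₂H hK₂ hsp (by simp) (coreIn_le s H) (coreIn_isPGroup s H)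
        (le_normalizer_coreIn s H)) fun x hx => mem_centralizer_zpowers ?_
      exact commute_of_coprime_normal
        (coprime_card hrp hsp h.one.hrs (isPGroup_zpowers hrp h.hyo) (coreIn_isPGroup s H))
        ((zpowers_le.mpr h.hy).trans (le_normalizer_coreIn s H)) ((coreIn_le s H).trans h.hHy)
        (mem_zpowers y) hx
    -- `T` centralizes the `r`-core
    have hdR : ∀ a ∈ R, Commute d a := fun a ha => by
      refine (mem_centralizer_iff.mp (Coprime.OmegaDetect.mem_centralizer_of_fix (p := r)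
        (by rw [← Nat.card_zpowers]; exact hcsr) hRp (hHR hdH) fun b hb hcase => ?_) a ha).symm
      have hbr := hcase.resolve_right fun h2 => hr2 h2.1
      by_cases hb1 : b = 1
      · simp [hb1]
      obtain ⟨i, rfl⟩ := hRu y hyR b hb h.hyo (orderOf_eq_prime hbr hb1) (hRy b hb).symm
      exact (hdy.zpow_right i).eq
    have hTR : T ≤ centralizer (R : Set G) := by
      have hdT' : zpowers d ≤ normalizer (T : Set G) := zpowers_le.mpr hdT
      rw [← Coprime.commutator_sup_inf_centralizer hdT'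
        (coprime_card hsp hrp h.one.hrs.symm (isPGroup_zpowers hsp hdo) hTp)
        (Or.inl (Coprime.isSolvable_of_isMulCommutative _))]
      refine sup_le ?_ fun t ht => ?_
      · rw [commutator_le]
        intro x hx g hg
        obtain ⟨j, rfl⟩ := mem_zpowers_iff.mp hg
        rw [mem_centralizer_iff]
        intro a ha
        have hg' : ∀ b ∈ R, Commute (d ^ j) b := fun b hb => (hdR b hb).zpow_left j
        have hxa : x⁻¹ * a * x ∈ R := (mem_normalizer_iff''.mp (hHR (hTH hx)) a).mp ha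
        rw [commutatorElement_def]
        calc a * (x * d ^ j * x⁻¹ * (d ^ j)⁻¹)
            = x * ((x⁻¹ * a * x) * d ^ j) * x⁻¹ * (d ^ j)⁻¹ := by group
          _ = x * (d ^ j * (x⁻¹ * a * x)) * x⁻¹ * (d ^ j)⁻¹ := by rw [(hg' _ hxa).eq]
          _ = x * d ^ j * x⁻¹ * (a * (d ^ j)⁻¹) := by group
          _ = x * d ^ j * x⁻¹ * ((d ^ j)⁻¹ * a) := by rw [((hg' a ha).inv_left).eq]
          _ = x * d ^ j * x⁻¹ * (d ^ j)⁻¹ * a := by group
      · obtain ⟨i, rfl⟩ := hTfix t ht.1 (mem_centralizer_iff.mp ht.2 d (mem_zpowers d))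
        exact mem_centralizer_iff.mpr fun a ha => ((hRy a ha).zpow_right i).eq
    have hTle : T ≤ R := fun t ht => mem_coreIn_of_centralizes (hTH ht)
      ⟨1, by rw [pow_one]; exact hTexp t ht⟩ fun l hl hd x hx => by
        rcases (show l = q ∨ l = r ∨ l = s by simpa using h.hallH.1 l hl hd) with rfl | rfl | rfl
        · exact (mem_centralizer_iff.mp (hTQ ht) x hx).symm
        · exact (mem_centralizer_iff.mp (hTR ht) x hx).symm
        · rw [(eq_bot_iff_forall _).mp hsH x hx]; exact Commute.one_right t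
    exact hTnu (hRu.mono hTle)
  · have hdR : ¬ zpowers d ≤ centralizer (R : Set G) := fun hle => hRu
      (h.one.fix_uniq h.one.hs h.one.hr h.one.hps.symm h.one.hpr.symm h.one.hrs.symm hdo hdfix
        fun x hx => (mem_centralizer_iff.mp (hle (mem_zpowers d)) x hx).symm)
    set C := K ⊓ centralizer (zpowers y : Set G) with hC
    set U := coreIn q C with hUdef
    have hUC := coreIn_le q C
    have hCH : C ≤ H := inf_le_left.trans h.hKH
    have hUp := coreIn_isPGroup q C
    have hCy : ∀ x ∈ C, Commute x y := fun x hx =>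
      (mem_centralizer_iff.mp hx.2 y (mem_zpowers y)).symm
    -- pick an element of order `s` in `C`
    obtain ⟨d₁, hd₁K, hd₁o, hd₁y⟩ := h.exists_inner_K
    have hd₁C : d₁ ∈ C := ⟨hd₁K, mem_centralizer_zpowers hd₁y.symm⟩
    have hd₁H := hCH hd₁C
    have hd₁R : ¬ zpowers d₁ ≤ centralizer (R : Set G) := fun hle => hRu
      (h.one.fix_uniq h.one.hs h.one.hr h.one.hps.symm h.one.hpr.symm h.one.hrs.symm hd₁o
        (h.inner_fix hU hd₁H hd₁o hd₁y)
        fun x hx => (mem_centralizer_iff.mp (hle (mem_zpowers d₁)) x hx).symm)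
    obtain ⟨T, hTR, hTnu, hTexp, hTN, hTfix⟩ := h.exponent_detect hU hRp hRH hyR hd₁H hd₁o hd₁y
      (hHR hd₁H) hd₁R
    have hTp : IsPGroup r T := hRp.to_le hTR
    have hUT : U ≤ centralizer (T : Set G) := by
      refine le_centralizer_of_rel hsp.pos (hd₁o ▸ pow_orderOf_eq_one d₁)
        (le_normalizer_coreIn q C hd₁C) ?_ (Coprime.isSolvable_of_isPGroup hTp)
        (coprime_card_prime hrp hsp h.one.hrs hTp) (coprime_card hrp hqp h.one.hqr.symm hTp hUp)
        (coprime_card_prime hqp hsp h.one.hqs hUp) (hTN d₁ hd₁H (hHR hd₁H))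
        (fun u hu => hTN u (hCH (hUC hu)) (hHR (hCH (hUC hu)))) ?_
      · intro i hi0 his u hu hiu
        obtain ⟨m, hm⟩ := Nat.exists_mul_mod_eq_one_of_coprime
          ((hsp.coprime_iff_not_dvd.mpr (Nat.not_dvd_of_pos_of_lt hi0 his)).symm) hsp.one_lt
        have h4 := hiu.pow_left m
        rw [← pow_mul, ← pow_mod_orderOf, hd₁o, hm.2, pow_one] at h4
        rw [h.core_fpf hU hd₁o hd₁y hu h4]
        exact one_mem _
      · intro t ht hdt u hu
        obtain ⟨i, rfl⟩ := hTfix t ht hdt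
        exact (hCy u (hUC hu)).zpow_right i
    have hUu : Uniq q U := by
      by_contra hnu
      obtain ⟨E, hEU, hE, hnc⟩ := exists_elem_of_not_uniq hqp hnu
      haveI := hE.1
      obtain ⟨x, hx, hx1, v, hv, hv1, hxv⟩ := exists_fix_noncyclic hnc (h.one.le_normalizer E)
        (coprime_card hqp h.one.pp h.one.hpq.symm (isPGroup_of_elem hE) h.one.hP)
        (h.one.ne_bot h.y_ne)
      exact hTnu (h.one.fix_uniq h.one.hq h.one.hr h.one.hpq.symm h.one.hpr.symm h.one.hqr
        (orderOf_of_mem_elem hqp hE hx hx1) ⟨v, hv, hv1, hxv⟩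
        fun t ht => (mem_centralizer_iff.mp (hUT (hEU hx)) t ht).symm)
    obtain ⟨u, huU, huo, -, huN⟩ := uniq_prime hqp hUp hU hUu
    have huy := hCy u (hUC huU)
    have hu1 : u ≠ 1 := fun e => hqp.ne_one (by rw [← huo, e, orderOf_one])
    have hsq : s ∣ q - 1 := by
      by_contra hnd
      exact hu1 (h.core_fpf hU hd₁o hd₁y huU (commute_of_not_dvd hqp hsp huo
        (huN (le_normalizer_coreIn q C hd₁C)) hd₁o hnd))
    have hqs' : ¬ q ∣ s - 1 := fun hd => by
      have h1 := hsp.two_le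
      have h2 := hqp.two_le
      have := Nat.le_of_dvd (by omega) hsq
      have := Nat.le_of_dvd (by omega) hd
      omega
    -- what centralizes `u` lies in `U`
    set Z := C ⊓ centralizer (zpowers u : Set G) with hZ
    have hZU : Z ≤ U := by
      refine le_coreIn inf_le_left (fun g hg => mem_normalizer_inf_centralizer (le_normalizer hg)
        (huN (le_normalizer_coreIn q C hg))) ?_
      have hZq : ∀ l : ℕ, l.Prime → l ∣ Nat.card Z → l = q := by
        intro l hl hd
        have hlqs : l = q ∨ l = s := by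
          simpa using h.hallK.1 l hl (hd.trans (card_dvd_of_le (inf_le_left.trans inf_le_left)))
        rcases hlqs with rfl | rfl
        · rfl
        haveI := Fact.mk hl
        obtain ⟨x, hx⟩ := exists_prime_orderOf_dvd_card' (G := Z) l hd
        exact (h.no_qs huo (by rw [orderOf_coe, hx]) huy (hCy x x.2.1)
          (mem_centralizer_iff.mp x.2.2 u (mem_zpowers u))).elim
      exact IsPGroup.of_card (n := (Nat.card Z).primeFactorsList.length)
        (Nat.eq_prime_pow_of_unique_prime_dvd Nat.card_pos.ne' (fun {l} hl hd => hZq l hl hd))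
    -- an element of order `q` moving `y`
    obtain ⟨Eqq, hEqK, hEq, hEqnc⟩ := h.one.ctx.exists_elem_le h.hallK h.one.hq (by simp)
    obtain ⟨b, hbE, hby⟩ : ∃ b ∈ Eqq, ¬ Commute b y := by
      by_contra hall
      have hEC : Eqq ≤ C := fun x hx => ⟨hEqK hx, mem_centralizer_zpowers
        (by_contra fun hc => hall ⟨x, hx, fun hxy => hc hxy.symm⟩)⟩
      refine not_uniq_of_elem hqp le_rfl hEq hEqnc (hUu.mono ((le_inf hEC fun x hx =>
        mem_centralizer_zpowers ?_).trans hZU))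
      by_cases hx1 : x = 1
      · rw [hx1]; exact Commute.one_right u
      exact (commute_of_same_prime hqp huo (huN (le_normalizer_coreIn q C (hEC hx)))
        (isPGroup_of_elem hEq) hx).symm
    have hbK := hEqK hbE
    have hbo : orderOf b = q :=
      orderOf_of_mem_elem hqp hEq hbE fun hb1 => hby (hb1 ▸ Commute.one_left y)
    set d' := b * d₁ * b⁻¹
    have hd'C : d' ∈ C := (mem_normalizer_iff.mp (h.C_normalized hbK) d₁).mp hd₁C
    have hd'o : orderOf d' = s := (orderOf_conj b d₁).trans hd₁o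
    -- `d'` lies in `U⟨d₁⟩`
    have hpw : ∀ x ∈ C, ∃ i : ℕ, x * u * x⁻¹ = u ^ i := fun x hx => by
      obtain ⟨i, hi⟩ := (isOfFinOrder_of_finite u).mem_powers_iff_mem_zpowers.mpr
        ((mem_normalizer_iff.mp (huN (le_normalizer_coreIn q C hx)) u).mp (mem_zpowers u))
      exact ⟨i, hi.symm⟩
    have hiter : ∀ (x : G) (i : ℕ), x * u * x⁻¹ = u ^ i → ∀ n : ℕ,
        x ^ n * u * (x ^ n)⁻¹ = u ^ (i ^ n) := by
      intro x i hi n
      induction n with
      | zero => simp
      | succ n ih =>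
        calc x ^ (n + 1) * u * (x ^ (n + 1))⁻¹ = x * (x ^ n * u * (x ^ n)⁻¹) * x⁻¹ := by
              rw [pow_succ']; group
          _ = (x * u * x⁻¹) ^ (i ^ n) := by rw [ih, conj_pow]
          _ = u ^ (i ^ (n + 1)) := by rw [hi, ← pow_mul, pow_succ']
    obtain ⟨i, hi⟩ := hpw d₁ hd₁C
    obtain ⟨j, hj⟩ := hpw d' hd'C
    have hcast : ∀ {m n : ℕ}, u ^ m = u ^ n ↔ (m : ZMod q) = n := fun {m n} => by
      rw [pow_eq_pow_iff_modEq, huo, ← ZMod.natCast_eq_natCast_iff]
    have hroot : ∀ {x : G} {k : ℕ}, x ∈ C → orderOf x = s → x * u * x⁻¹ = u ^ k →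
        IsPrimitiveRoot (k : ZMod q) s := by
      intro x k hx hxo hk
      have hks : (k : ZMod q) ^ s = 1 := by
        have h2 := hiter x k hk s
        rw [show x ^ s = 1 from hxo ▸ pow_orderOf_eq_one x, one_mul, inv_one, mul_one] at h2
        have h3 : u ^ (k ^ s) = u ^ 1 := by rw [← h2, pow_one]
        simpa using hcast.mp h3
      rcases (Nat.dvd_prime hsp).mp (orderOf_dvd_of_pow_eq_one hks) with h1 | h1
      · exfalso
        have h4 : u ^ k = u ^ 1 := hcast.mpr (by rw [orderOf_eq_one_iff.mp h1, Nat.cast_one])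
        rw [← hk, pow_one] at h4
        exact h.no_qs huo hxo huy (hCy x hx) (mul_inv_eq_iff_eq_mul.mp h4 : Commute x u).symm
      · exact h1 ▸ IsPrimitiveRoot.orderOf _
    have hri := hroot hd₁C hd₁o hi
    have hrj := hroot hd'C hd'o hj
    haveI : NeZero s := ⟨hsp.ne_zero⟩
    obtain ⟨k, -, hk⟩ := hri.eq_pow_of_pow_eq_one hrj.pow_eq_one
    have hz : (d₁ ^ k)⁻¹ * d' ∈ Z := by
      refine mem_inf.mpr ⟨mul_mem (inv_mem (pow_mem hd₁C k)) hd'C, mem_centralizer_zpowers ?_⟩
      have h1 : d₁ ^ k * u * (d₁ ^ k)⁻¹ = d' * u * d'⁻¹ := by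
        rw [hiter d₁ i hi k, hj]; exact hcast.mpr (by rw [Nat.cast_pow, hk])
      have h2 : ((d₁ ^ k)⁻¹ * d') * u * ((d₁ ^ k)⁻¹ * d')⁻¹ = u := by
        calc ((d₁ ^ k)⁻¹ * d') * u * ((d₁ ^ k)⁻¹ * d')⁻¹
            = (d₁ ^ k)⁻¹ * (d' * u * d'⁻¹) * d₁ ^ k := by group
          _ = u := by rw [← h1]; group
      exact (mul_inv_eq_iff_eq_mul.mp h2 : Commute _ u).symm
    have hd₁U : zpowers d₁ ≤ normalizer (U : Set G) :=
      zpowers_le.mpr (le_normalizer_coreIn q C hd₁C)
    have hd'U : zpowers d' ≤ normalizer (U : Set G) :=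
      zpowers_le.mpr (le_normalizer_coreIn q C hd'C)
    have hd'mem : d' ∈ U ⊔ zpowers d₁ := by
      have : d' = d₁ ^ k * ((d₁ ^ k)⁻¹ * d') := by group
      rw [this]
      exact mul_mem (mem_sup_right (pow_mem (mem_zpowers d₁) k)) (mem_sup_left (hZU hz))
    have hcs₁ : (Nat.card U).Coprime (Nat.card (zpowers d₁)) :=
      coprime_card hqp hsp h.one.hqs hUp (isPGroup_zpowers hsp hd₁o)
    have hcs' : (Nat.card U).Coprime (Nat.card (zpowers d')) :=
      coprime_card hqp hsp h.one.hqs hUp (isPGroup_zpowers hsp hd'o)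
    have hsup : U ⊔ zpowers d' = U ⊔ zpowers d₁ := eq_of_le_of_card_ge
      (sup_le le_sup_left (zpowers_le.mpr hd'mem))
      (by rw [Coprime.card_sup_of_coprime hd₁U hcs₁, Coprime.card_sup_of_coprime hd'U hcs',
        Nat.card_zpowers, Nat.card_zpowers, hd₁o, hd'o])
    obtain ⟨n, hn, hconj⟩ := Coprime.exists_conj_eq_of_sup_eq hd'U hd₁U hsup hcs' hcs₁
      (Or.inr (Coprime.isSolvable_of_isMulCommutative _))
    set b' := n * b
    have hny := hCy n (hUC hn)
    have hb'y : ¬ Commute b' y := fun hc => hby (by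
      have := hny.inv_left.mul_left hc
      rwa [show n⁻¹ * b' = b by simp [b']] at this)
    have hb'K : b' ∈ K := mul_mem (hUC hn).1 hbK
    have hb'd : b' ∈ normalizer (zpowers d₁ : Set G) := by
      rw [← Coprime.conj_smul_eq_self_iff]
      refine eq_of_le_of_card_ge ?_ (Coprime.card_conj_smul _ _).ge
      rw [Coprime.conj_smul_eq_map, MonoidHom.map_zpowers, zpowers_le, ← hconj]
      exact Coprime.mem_conj_smul.mpr (by
        show _ ∈ zpowers d'
        simp only [MulEquiv.coe_toMonoidHom, MulAut.conj_apply, b']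
        convert mem_zpowers d' using 1
        simp only [d']; group)
    have hbU : b ∈ normalizer (U : Set G) :=
      Coprime.OmegaDetect.normalizer_le_normalizer_char C (Cfsg.pCore q C) (h.C_normalized hbK)
    have hpows : ∀ m : ℕ, b' ^ m * (b ^ m)⁻¹ ∈ U := by
      intro m
      induction m with
      | zero => simp [one_mem]
      | succ m ih =>
        have h1 := mul_mem ih ((mem_normalizer_iff.mp (pow_mem hbU m) n).mp hn)
        convert h1 using 1
        simp only [b', pow_succ]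
        group
    have hb'q : b' ^ q = 1 := by
      have hmU : b' ^ q ∈ U := by
        have := hpows q
        rwa [show b ^ q = 1 from hbo ▸ pow_orderOf_eq_one b, inv_one, mul_one] at this
      refine h.core_fpf hU hd₁o hd₁y hmU ?_
      set m := b' ^ q
      have h1 : m * d₁ * m⁻¹ * d₁⁻¹ ∈ U ⊓ zpowers d₁ := mem_inf.mpr ⟨by
        have := mul_mem hmU ((mem_normalizer_iff.mp (hd₁U (mem_zpowers d₁)) _).mp (inv_mem hmU))
        simpa [mul_assoc] using this,
        mul_mem ((mem_normalizer_iff.mp (pow_mem hb'd q) d₁).mp (mem_zpowers d₁))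
          (inv_mem (mem_zpowers d₁))⟩
      rw [card_eq_one.mp (Nat.eq_one_of_dvd_coprimes hcs₁ (card_dvd_of_le inf_le_left)
        (card_dvd_of_le inf_le_right)), mem_bot, mul_inv_eq_one, mul_inv_eq_iff_eq_mul] at h1
      exact h1.symm
    have hb'1 : b' ≠ 1 := fun h1 => hb'y (h1 ▸ Commute.one_left y)
    have hb'o : orderOf b' = q := orderOf_eq_prime hb'q hb'1
    exact h.inner_s_alone hU hd₁H hd₁o hd₁y (h.hKH hb'K) hb'o
      (commute_of_not_dvd hsp hqp hd₁o hb'd hb'o hqs').symm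

end Core

theorem absurd_central : False := by
  obtain ⟨d, hd, hdo, hdy⟩ := h.exists_inner_K
  have hne : K ⊓ centralizer (zpowers y : Set G) ≠ ⊥ := fun hb => h.one.sp.ne_one (by
    have := (eq_bot_iff_forall _).mp hb d ⟨hd, mem_centralizer_zpowers hdy.symm⟩
    rw [← hdo, this, orderOf_one])
  obtain ⟨l, hl, hdl, hLne⟩ := exists_coreIn_ne_bot hne
  rcases (show l = q ∨ l = s by
    simpa using h.hallK.1 l hl (hdl.trans (card_dvd_of_le inf_le_left))) with rfl | rfl
  · exact h.absurd_of_core hLne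
  · exact h.swap.absurd_of_core hLne

end Central

end Cfsg.Agent.Components.FourPrimes
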