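import Cfsg.Agent.Lib.Coprime.Action
import Cfsg.Agent.Lib.Coprime.Commutator
import Mathlib.GroupTheory.Abelianization.Defs
import Mathlib.GroupTheory.SpecificGroups.Cyclic

/-! A cyclic complement acting without fixed points detects the action of a kernel: if the fixed
points of `e` on `V` are centralized by `Y`, and so are the points of `Y` fixed by a nontrivial
power of `e`, then `Y` centralizes `V`. -/

set_option autoImplicit false
set_option linter.all false

namespace Cfsg.Agent.Components.FourPrimes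

open Subgroup

/-- The abelian case. -/
theorem fixed_of_cyclic {A H : Type*} [CommGroup A] [Group H] (ρ : H →* MulAut A) {Y : Subgroup H}
    [Finite Y] {e : H} {n : ℕ} (hn : 0 < n) (he : e ^ n = 1) (heY : e ∈ normalizer (Y : Set H))
    (hfpf : ∀ i, 0 < i → i < n → ∀ y ∈ Y, Commute (e ^ i) y → y = 1)
    (hfix : ∀ v, ρ e v = v → ∀ y ∈ Y, ρ y v = v)
    (hinj : Function.Injective fun v : A => v ^ Nat.card Y) (v : A) : ∀ y ∈ Y, ρ y v = v := by
  classical
  have := Fintype.ofFinite Y
  set S : A → A := fun x => ∏ i ∈ Finset.range n, ρ (e ^ i) x with hS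
  have hSe : ∀ x, ρ e (S x) = S x := by
    intro x
    show ρ e (∏ i ∈ Finset.range n, ρ (e ^ i) x) = ∏ i ∈ Finset.range n, ρ (e ^ i) x
    rw [map_prod]
    simp only [← MulAut.mul_apply, ← map_mul, ← pow_succ']
    obtain ⟨n', rfl⟩ := Nat.exists_eq_add_of_le' hn
    rw [Finset.prod_range_succ, Finset.prod_range_succ' (fun i => ρ (e ^ i) x) n', he, pow_zero]
  set N : A → A := fun x => ∏ y : Y, ρ (y : H) x with hN
  have hNfix : ∀ x, ∀ y ∈ Y, ρ y (N x) = N x := by
    intro x y hy
    show ρ y (∏ z : Y, ρ (z : H) x) = ∏ z : Y, ρ (z : H) x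
    rw [map_prod]
    simp only [← MulAut.mul_apply, ← map_mul]
    exact Fintype.prod_equiv (Equiv.mulLeft (⟨y, hy⟩ : Y)) _ _ fun z => rfl
  set Φ : ℕ → A := fun i => ∏ y : Y, ρ ((y : H) * e ^ i * (y : H)⁻¹) v with hΦ
  have htot : ∀ y ∈ Y, ρ y (∏ i ∈ Finset.range n, Φ i) = ∏ i ∈ Finset.range n, Φ i := by
    have e' : ∏ i ∈ Finset.range n, Φ i = ∏ z : Y, S (ρ (z : H)⁻¹ v) := by
      simp only [hΦ]
      rw [Finset.prod_comm]
      refine Finset.prod_congr rfl fun z _ => ?_
      rw [← hfix _ (hSe (ρ (z : H)⁻¹ v)) z z.2, hS, map_prod]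
      simp only [← MulAut.mul_apply, ← map_mul, mul_assoc]
    intro y hy
    rw [e', map_prod]
    exact Finset.prod_congr rfl fun z _ => hfix _ (hSe _) y hy
  have hi : ∀ i, 0 < i → i < n → ∀ y ∈ Y, ρ y (Φ i) = Φ i := by
    intro i hi0 hin
    have hmem : ∀ z : Y, (z : H) * (e ^ i * (z : H)⁻¹ * (e ^ i)⁻¹) ∈ Y := fun z =>
      mul_mem z.2 ((mem_normalizer_iff.mp (pow_mem heY i) _).mp (inv_mem z.2))
    set f : Y → Y := fun z => ⟨_, hmem z⟩ with hf
    have hfi : Function.Injective f := by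
      intro z w hzw
      have h1 : (z : H) * (e ^ i * (z : H)⁻¹ * (e ^ i)⁻¹) = w * (e ^ i * (w : H)⁻¹ * (e ^ i)⁻¹) :=
        congrArg Subtype.val hzw
      have h2 : Commute (e ^ i) ((w : H)⁻¹ * z) := by
        have h3 : (w : H)⁻¹ * z = e ^ i * ((w : H)⁻¹ * z) * (e ^ i)⁻¹ := by
          calc (w : H)⁻¹ * z = (w : H)⁻¹ * ((z : H) * (e ^ i * (z : H)⁻¹ * (e ^ i)⁻¹))
              * (e ^ i * z * (e ^ i)⁻¹) := by group
            _ = (w : H)⁻¹ * ((w : H) * (e ^ i * (w : H)⁻¹ * (e ^ i)⁻¹))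
              * (e ^ i * z * (e ^ i)⁻¹) := by rw [h1]
            _ = e ^ i * ((w : H)⁻¹ * z) * (e ^ i)⁻¹ := by group
        exact (mul_inv_eq_iff_eq_mul.mp h3.symm)
      exact Subtype.ext (inv_mul_eq_one.mp (hfpf i hi0 hin _ (mul_mem (inv_mem w.2) z.2) h2)).symm
    have e' : Φ i = N (ρ (e ^ i) v) := by
      refine Fintype.prod_bijective f (Finite.injective_iff_bijective.mp hfi) _ _ fun z => ?_
      rw [← MulAut.mul_apply, ← map_mul]
      congr 2
      show _ = (z : H) * (e ^ i * (z : H)⁻¹ * (e ^ i)⁻¹) * e ^ i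
      group
    rw [e']; exact hNfix _
  intro y hy
  obtain ⟨n', rfl⟩ := Nat.exists_eq_add_of_le' hn
  have h := htot y hy
  rw [Finset.prod_range_succ', map_mul, map_prod] at h
  rw [Finset.prod_congr rfl (g := fun i => Φ (i + 1)) fun i hi' =>
    hi (i + 1) i.succ_pos (by rw [Finset.mem_range] at hi'; omega) y hy] at h
  have h0 : Φ 0 = v ^ Nat.card Y := by
    simp only [hΦ]
    rw [Finset.prod_congr rfl (g := fun _ => v) fun z _ => ?_]
    · simp [Finset.card_univ, Nat.card_eq_fintype_card]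
    · rw [pow_zero, mul_one, mul_inv_cancel, map_one, MulAut.one_apply]
  have h1 := mul_left_cancel h
  rw [h0, map_pow] at h1
  exact hinj h1

variable {G : Type*} [Group G] [Finite G]

theorem le_centralizer_of_rel {n : ℕ} (hn : 0 < n) {e : G} (hen : e ^ n = 1) {Y V : Subgroup G}
    (heY : e ∈ normalizer (Y : Set G))
    (hfpf : ∀ i, 0 < i → i < n → ∀ y ∈ Y, Commute (e ^ i) y → y ∈ centralizer (V : Set G))
    (hV : Group.IsSolvable V) (hVn : (Nat.card V).Coprime n) (hVY : (Nat.card V).Coprime (Nat.card Y))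
    (hYn : (Nat.card Y).Coprime n)
    (heV : e ∈ normalizer (V : Set G)) (hYV : Y ≤ normalizer (V : Set G))
    (hfix : ∀ x ∈ V, Commute e x → ∀ y ∈ Y, Commute y x) : Y ≤ centralizer (V : Set G) := by
  induction hc : Nat.card V using Nat.strong_induction_on generalizing V with
  | _ m ih => ?_
  by_cases hV0 : V = ⊥
  · intro y _
    simp [hV0, mem_centralizer_iff]
  have hlt := Coprime.commutator_lt_of_isSolvable hV hV0
  set N := ⁅V, V⁆ with hNdef
  have hNn : ∀ g ∈ normalizer (V : Set G), g ∈ normalizer (N : Set G) := fun g hg =>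
    mem_normalizer_iff_map_conj_eq.mpr (by
      rw [hNdef, Subgroup.map_commutator, mem_normalizer_iff_map_conj_eq.mp hg])
  have hcard : Nat.card N < m := hc ▸ lt_of_le_of_ne (card_le_of_le hlt.le) fun e' =>
    hlt.ne (eq_of_le_of_card_ge hlt.le e'.ge)
  have hN : Y ≤ centralizer (N : Set G) :=
    ih _ hcard (fun i h0 h1 y hy hey => centralizer_le hlt.le (hfpf i h0 h1 y hy hey))
      (Coprime.isSolvable_of_le hlt.le hV)
      (hVn.coprime_dvd_left (card_dvd_of_le hlt.le)) (hVY.coprime_dvd_left (card_dvd_of_le hlt.le))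
      (hNn e heV) (fun y hy => hNn y (hYV hy)) (fun x hx => hfix x (hlt.le hx)) rfl
  set H := normalizer (V : Set G) with hH
  let φ : H →* MulAut V := V.normalizerMonoidHom
  let ρ : H →* MulAut (Abelianization V) :=
    { toFun := fun g => (φ g).abelianizationCongr
      map_one' := by
        ext u
        obtain ⟨y, rfl⟩ := QuotientGroup.mk'_surjective (commutator V) u
        show Abelianization.of (φ 1 y) = Abelianization.of y
        rw [map_one, MulAut.one_apply]
      map_mul' := fun g h => by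
        ext u
        obtain ⟨y, rfl⟩ := QuotientGroup.mk'_surjective (commutator V) u
        show Abelianization.of (φ (g * h) y) = Abelianization.of (φ g (φ h y))
        rw [map_mul, MulAut.mul_apply] }
  have hlift : ∀ u, ρ ⟨e, heV⟩ u = u → ∃ z : V, Abelianization.of z = u ∧ Commute e (z : G) := by
    intro u hu
    obtain ⟨y, rfl⟩ := QuotientGroup.mk'_surjective (commutator V) u
    have h1 : e * (y : G) * e⁻¹ * (y : G)⁻¹ ∈ N := by
      have h0 : φ ⟨e, heV⟩ y * y⁻¹ ∈ commutator V := by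
        rw [← div_eq_mul_inv]
        exact QuotientGroup.eq_iff_div_mem.mp hu
      have := Subgroup.mem_map_of_mem V.subtype h0
      rwa [map_subtype_commutator] at this
    have hfixN : ∀ a ∈ zpowers e, a * (y : G) * a⁻¹ * (y : G)⁻¹ ∈ N := by
      have hb : ∀ j : ℕ, e ^ j * (y : G) * (e ^ j)⁻¹ * (y : G)⁻¹ ∈ N := by
        intro j
        induction j with
        | zero => simp
        | succ j ihj =>
          have h2 := (mem_normalizer_iff.mp (hNn _ (pow_mem heV j)) _).mp h1
          have := N.mul_mem h2 ihj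
          convert this using 1
          rw [pow_succ]; group
      intro a ha
      obtain ⟨j, rfl⟩ := (isOfFinOrder_of_finite e).mem_powers_iff_mem_zpowers.mpr ha
      exact hb j
    obtain ⟨c', hc', hcN⟩ := Coprime.exists_fixed_mod (A := zpowers e) (K := V) (N := N) (k := (y : G))
      (hVn.symm.coprime_dvd_left (by rw [Nat.card_zpowers]; exact orderOf_dvd_of_pow_eq_one hen))
      (Or.inr hV) hlt.le (fun g hg => hNn g (le_normalizer hg))
      (zpowers_le.mpr (hNn e heV)) y.2 hfixN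
    refine ⟨⟨c', hc'.1⟩, ?_, (mem_centralizer_iff.mp hc'.2 e (mem_zpowers e))⟩
    refine (QuotientGroup.eq (s := commutator V)).mpr ?_
    have h4 : ((⟨c', hc'.1⟩ : V)⁻¹ * y : V) ∈ (⁅V, V⁆).subgroupOf V := by
      have := N.inv_mem hcN
      rwa [mul_inv_rev, inv_inv] at this
    rwa [← map_subtype_commutator, subgroupOf, comap_map_eq_self_of_injective V.subtype_injective] at h4
  set e₀ : H := ⟨e, heV⟩ with he₀
  set Y₀ := Y.subgroupOf H with hY₀
  have hY₀c : Nat.card Y₀ = Nat.card Y := Nat.card_congr (subgroupOfEquivOfLe hYV).toEquiv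
  have heY₀ : e₀ ∈ normalizer (Y₀ : Set H) := by
    rw [hY₀, ← subgroupOf_normalizer_eq hYV]; exact heY
  have hfpf' : ∀ i, 0 < i → i < n → ∀ y ∈ Y₀.map ρ, Commute (ρ e₀ ^ i) y → y = 1 := by
    intro i h0 h1 y hy hey
    have hen₀ : (e₀ ^ i) ^ n = 1 := by
      rw [← pow_mul, mul_comm, pow_mul, show e₀ ^ n = 1 from Subtype.ext hen, one_pow]
    have hcop : (Nat.card (zpowers (e₀ ^ i))).Coprime (Nat.card Y₀) := by
      rw [hY₀c, Nat.card_zpowers]
      exact hYn.symm.coprime_dvd_left (orderOf_dvd_of_pow_eq_one hen₀)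
    have hmap := Coprime.map_inf_centralizer ρ (A := zpowers (e₀ ^ i)) (K := Y₀)
      (zpowers_le.mpr (pow_mem heY₀ i)) hcop (Or.inl (Coprime.isSolvable_of_isMulCommutative _))
    have hy' : y ∈ Y₀.map ρ ⊓ centralizer (((zpowers (e₀ ^ i)).map ρ : Subgroup _) : Set _) := by
      refine ⟨hy, mem_centralizer_iff.mpr ?_⟩
      rintro _ ⟨a, ⟨j, rfl⟩, rfl⟩
      simp only [map_zpow, map_pow]
      exact (hey.zpow_left j).eq
    rw [← hmap] at hy'
    obtain ⟨c, ⟨hcY, hcC⟩, rfl⟩ := hy'
    have hc : (c : G) ∈ centralizer (V : Set G) := hfpf i h0 h1 c hcY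
      (congrArg Subtype.val (mem_centralizer_iff.mp hcC _ (mem_zpowers _)))
    refine MulEquiv.ext fun u => ?_
    obtain ⟨w, rfl⟩ := QuotientGroup.mk'_surjective (commutator V) u
    show Abelianization.of (φ c w) = Abelianization.of w
    exact congrArg Abelianization.of (Subtype.ext
      (mul_inv_eq_iff_eq_mul.mpr (mem_centralizer_iff.mp hc w w.2).symm))
  have : Finite Y₀ := inferInstance
  have : Finite ↥(Y₀.map ρ) := Finite.of_surjective _ (ρ.subgroupMap_surjective Y₀)
  have hab : ∀ u : Abelianization V, ∀ y ∈ Y₀.map ρ, y u = u := by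
    refine fixed_of_cyclic (MonoidHom.id (MulAut (Abelianization V))) (e := ρ e₀) hn
      (by rw [← map_pow, show e₀ ^ n = 1 from Subtype.ext hen, map_one]) ?_ hfpf' (fun u hu => ?_) ?_
    · exact le_normalizer_map ρ ⟨e₀, heY₀, rfl⟩
    · rintro _ ⟨y, hy, rfl⟩
      obtain ⟨z, hzu, hze⟩ := hlift u hu
      subst hzu
      show Abelianization.of (φ y z) = Abelianization.of z
      exact congrArg Abelianization.of (Subtype.ext
        (mul_inv_eq_iff_eq_mul.mpr (hfix _ z.2 hze _ hy).eq))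
    · exact (powCoprime ((hVY.coprime_dvd_left (card_quotient_dvd_card _)).coprime_dvd_right
        (hY₀c ▸ card_map_dvd _ ρ))).injective
  refine Coprime.le_centralizer_of_series hYV hVY.symm (Or.inr hV) hN ?_
  rw [commutator_comm, commutator_le]
  intro y hy x hx
  have h0 : ρ ⟨y, hYV hy⟩ (Abelianization.of ⟨x, hx⟩) = _ :=
    hab (Abelianization.of ⟨x, hx⟩) _ ⟨⟨y, hYV hy⟩, hy, rfl⟩
  have h1 : φ ⟨y, hYV hy⟩ ⟨x, hx⟩ * (⟨x, hx⟩ : V)⁻¹ ∈ commutator V := by
    rw [← div_eq_mul_inv]
    exact QuotientGroup.eq_iff_div_mem.mp h0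
  have := Subgroup.mem_map_of_mem V.subtype h1
  rwa [map_subtype_commutator] at this

/-- A cyclic complement whose nontrivial powers fix only points of the kernel acting trivially
fixes a nontrivial point. -/
theorem exists_fixed_of_rel {n : ℕ} (hn : 0 < n) {e : G} (hen : e ^ n = 1) {Y V : Subgroup G}
    (heY : e ∈ normalizer (Y : Set G))
    (hfpf : ∀ i, 0 < i → i < n → ∀ y ∈ Y, Commute (e ^ i) y → y ∈ centralizer (V : Set G))
    (hV : Group.IsSolvable V) (hVn : (Nat.card V).Coprime n) (hVY : (Nat.card V).Coprime (Nat.card Y))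
    (hYn : (Nat.card Y).Coprime n)
    (heV : e ∈ normalizer (V : Set G)) (hYV : Y ≤ normalizer (V : Set G))
    (hnc : ¬ Y ≤ centralizer (V : Set G)) : ∃ x ∈ V, x ≠ 1 ∧ Commute e x := by
  by_contra hne
  exact hnc (le_centralizer_of_rel hn hen heY hfpf hV hVn hVY hYn heV hYV fun x hx hex y _ => by
    by_cases hx1 : x = 1
    · rw [hx1]; exact Commute.one_right y
    · exact absurd ⟨x, hx, hx1, hex⟩ hne)

end Cfsg.Agent.Components.FourPrimes
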