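import Cfsg.Agent.Lib.Components.FourPrimes.OneCore
import Cfsg.Agent.Lib.Coprime.OmegaDetect

/-! A noncyclic elementary `q`-group normalised by a Hall `{r, s}`-subgroup is impossible. -/

set_option autoImplicit false
set_option linter.all false

namespace Cfsg.Agent.Components.FourPrimes

open Subgroup
open scoped commutatorElement

variable {G : Type*} [Group G] [Finite G] [Group.IsSolvable G] {σ : Finset ℕ} {p q r s : ℕ}
  {P K A : Subgroup G}

/-- The setting of a module. -/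
structure Mod (σ : Finset ℕ) (p q r s : ℕ) (P K A : Subgroup G) : Prop where
  one : OneCore σ p q r s P
  hall : Cfsg.IsPiHall ({r, s} : Set ℕ) K
  hA : Cfsg.IsElementaryAbelian q A
  hnc : ¬ IsCyclic A
  hKA : K ≤ normalizer (A : Set G)

namespace Mod

variable (h : Mod σ p q r s P K A)
include h

theorem swap : Mod σ p q s r P K A :=
  ⟨h.one.swap_rs, Set.pair_comm r s ▸ h.hall, h.hA, h.hnc, h.hKA⟩

theorem exists_E : ∃ E ≤ K, Cfsg.IsElementaryAbelian s E ∧ ¬ IsCyclic E :=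
  h.one.ctx.exists_elem_le h.hall h.one.hs (by simp)

theorem prime_mem {l : ℕ} (hl : l.Prime) {N : Subgroup G} (hN : N ≤ K) (hd : l ∣ Nat.card N) :
    l = r ∨ l = s := by
  simpa using h.hall.1 l hl (hd.trans (card_dvd_of_le hN))

theorem isPGroup_of_le {W : Subgroup G} (hW : W ≤ A) : IsPGroup q W :=
  (isPGroup_of_elem h.hA).to_le hW

theorem rs_fixed {e f a : G} (heo : orderOf e = r) (hfo : orderOf f = s) (hef : Commute e f)
    (ha : a ∈ A) (hea : Commute e a) (hfa : Commute f a) : a = 1 :=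
  h.one.ctx.no_common h.one.hr h.one.hs h.one.hq h.one.hrs h.one.hqs.symm h.one.hqr.symm heo hfo
    (isPGroup_of_elem h.hA) ha hef hea hfa

/-- Commuting elements of orders `r`, `s` have no common regular orbit. -/
theorem pair_centralizes {e f : G} (he : e ∈ K) (hf : f ∈ K) (heo : orderOf e = r)
    (hfo : orderOf f = s) (hef : Commute e f) :
    ∀ a ∈ ⁅A, zpowers e⁆, Commute f a := by
  haveI := h.hA.1
  set A₁ := ⁅A, zpowers e⁆ with hA₁
  have heA : zpowers e ≤ normalizer (A : Set G) := zpowers_le.mpr (h.hKA he)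
  have hA₁A : A₁ ≤ A := Coprime.commutator_le_of_le_normalizer heA
  haveI : IsMulCommutative A₁ := (elementary_of_le h.hA hA₁A).1
  have hfA₁ : f ∈ normalizer (A₁ : Set G) :=
    mem_normalizer_commutator (h.hKA hf) (commute_mem_normalizer_zpowers hef.symm)
  have hfl : zpowers f ≤ normalizer (A₁ : Set G) := zpowers_le.mpr hfA₁
  set W := ⁅A₁, zpowers f⁆ with hW
  have hWA₁ : W ≤ A₁ := Coprime.commutator_le_of_le_normalizer hfl
  suffices hW1 : W = ⊥ by
    intro a ha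
    exact (mem_centralizer_iff.mp
      (Coprime.commutator_eq_bot_iff_le_centralizer'.mp hW1 (mem_zpowers f)) a ha).symm
  by_contra hW1
  have hfe : ∀ w ∈ W, Commute e w → w = 1 := fun w hw hew => by
    have h2 : w ∈ (A ⊓ centralizer (zpowers e : Set G)) ⊓ ⁅A, zpowers e⁆ :=
      ⟨⟨hA₁A (hWA₁ hw), mem_centralizer_zpowers hew⟩, hWA₁ hw⟩
    rw [Coprime.inf_centralizer_inf_commutator heA (coprime_card h.one.rp h.one.qp h.one.hqr.symm
      (isPGroup_zpowers h.one.rp heo) (isPGroup_of_elem h.hA))] at h2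
    exact mem_bot.mp h2
  have hff : ∀ w ∈ W, Commute f w → w = 1 := fun w hw hfw => by
    have h2 : w ∈ (A₁ ⊓ centralizer (zpowers f : Set G)) ⊓ ⁅A₁, zpowers f⁆ :=
      ⟨⟨hWA₁ hw, mem_centralizer_zpowers hfw⟩, hw⟩
    rw [Coprime.inf_centralizer_inf_commutator hfl (coprime_card h.one.sp h.one.qp h.one.hqs.symm
      (isPGroup_zpowers h.one.sp hfo) (h.isPGroup_of_le hA₁A))] at h2
    exact mem_bot.mp h2
  have hcop : (r).Coprime s := (Nat.coprime_primes h.one.rp h.one.sp).mpr h.one.hrs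
  have heW : e ∈ normalizer (W : Set G) := mem_normalizer_commutator
    (mem_normalizer_commutator (h.hKA he) (commute_mem_normalizer_zpowers (Commute.refl e)))
    (commute_mem_normalizer_zpowers hef)
  have hfW : f ∈ normalizer (W : Set G) :=
    mem_normalizer_commutator hfA₁ (commute_mem_normalizer_zpowers (Commute.refl f))
  have hg : orderOf (e * f) = r * s := by
    rw [hef.orderOf_mul_eq_mul_orderOf_of_coprime (by rw [heo, hfo]; exact hcop), heo, hfo]
  have hWq := h.isPGroup_of_le (hWA₁.trans hA₁A)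
  have hrs0 : 0 < r * s := Nat.mul_pos h.one.rp.pos h.one.sp.pos
  have hfpfW : ∀ i, 0 < i → i < r * s → ∀ w ∈ W, Commute ((e * f) ^ i) w →
      w ∈ centralizer (P : Set G) := by
    intro i hi0 hilt w hw hiw
    rw [hef.mul_pow] at hiw
    have h1 : ∀ {u : G} {n : ℕ}, n.Prime → orderOf u = n → ¬ n ∣ i → Commute (u ^ i) w →
        Commute u w := by
      intro u n hn hu hni hc
      obtain ⟨m, hm⟩ := Nat.exists_mul_mod_eq_one_of_coprime
        (hn.coprime_iff_not_dvd.mpr hni).symm hn.one_lt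
      have h4 := hc.pow_left m
      rwa [← pow_mul, ← pow_mod_orderOf, hu, hm.2, pow_one] at h4
    suffices hw1 : w = 1 by rw [hw1]; exact one_mem _
    by_cases hri : r ∣ i
    · obtain ⟨j, rfl⟩ := hri
      have hsi : ¬ s ∣ r * j := by
        intro hd
        rcases h.one.sp.dvd_mul.mp hd with h2 | h2
        · exact h.one.hrs ((Nat.prime_dvd_prime_iff_eq h.one.sp h.one.rp).mp h2).symm
        · obtain ⟨k, rfl⟩ := h2
          rcases Nat.eq_zero_or_pos k with rfl | hk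
          · simp at hi0
          · exact absurd hilt (not_lt.mpr (Nat.mul_le_mul_left r (Nat.le_mul_of_pos_right s hk)))
      rw [show e ^ (r * j) = 1 by rw [pow_mul, ← heo, pow_orderOf_eq_one, one_pow], one_mul] at hiw
      exact hff w hw (h1 h.one.sp hfo hsi hiw)
    · refine hfe w hw (h1 h.one.rp heo hri ?_)
      have h4 := hiw.pow_left s
      rw [((hef.pow_pow i i)).mul_pow, ← pow_mul f, mul_comm i s, pow_mul f, ← hfo,
        pow_orderOf_eq_one, one_pow, mul_one, hfo, ← pow_mul] at h4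
      refine (Nat.exists_mul_mod_eq_one_of_coprime hcop.symm h.one.rp.one_lt).elim fun m hm => ?_
      have h5 := h4.pow_left m
      rwa [← pow_mul, ← pow_mod_orderOf, heo, mul_assoc, Nat.mul_mod, hm.2, mul_one, Nat.mod_mod,
        ← heo, pow_mod_orderOf] at h5
  obtain ⟨v, hv, hv1, hgv⟩ := exists_fixed_of_rel (V := P) hrs0 (hg ▸ pow_orderOf_eq_one (e * f))
    (mul_mem heW hfW) hfpfW
    (haveI := Fact.mk h.one.pp; Coprime.isSolvable_of_isPGroup h.one.hP)
    ((coprime_card_prime h.one.pp h.one.rp h.one.hpr h.one.hP).mul_right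
      (coprime_card_prime h.one.pp h.one.sp h.one.hps h.one.hP))
    (coprime_card h.one.pp h.one.qp h.one.hpq h.one.hP hWq)
    ((coprime_card_prime h.one.qp h.one.rp h.one.hqr hWq).mul_right
      (coprime_card_prime h.one.qp h.one.sp h.one.hqs hWq))
    (h.one.le_normalizer _ (mem_zpowers (e * f))) (h.one.le_normalizer W)
    (h.one.not_le_centralizer h.one.hq h.one.hpq.symm hWq hW1)
  obtain ⟨m, hm⟩ := exists_pow_eq_self_of_coprime (n := s) (x := e) (by rw [heo]; exact hcop.symm)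
  have he' : Commute e v := by
    have h4 := (hgv.pow_left s).pow_left m
    rwa [hef.mul_pow, ← hfo, pow_orderOf_eq_one, mul_one, hfo, hm] at h4
  obtain ⟨m', hm'⟩ := exists_pow_eq_self_of_coprime (n := r) (x := f) (by rw [hfo]; exact hcop)
  have hf' : Commute f v := by
    have h4 := (hgv.pow_left r).pow_left m'
    rwa [hef.mul_pow, ← heo, pow_orderOf_eq_one, one_mul, heo, hm'] at h4
  exact hv1 (h.one.not_fix_pair h.one.hr h.one.hs h.one.hpr.symm h.one.hps.symm h.one.hrs heo hfo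
    hef hv he' hf')

/-- A normal subgroup of order `r` centralizes no noncyclic invariant subgroup of `A`. -/
theorem no_central_elem {e : G} (he : e ∈ K) (heo : orderOf e = r)
    (hKe : K ≤ normalizer (zpowers e : Set G)) {B : Subgroup G} (hBA : B ≤ A)
    (hB : ¬ IsCyclic B) (hKB : K ≤ normalizer (B : Set G)) (heB : ∀ b ∈ B, Commute e b) : False := by
  classical
  have hrp := h.one.rp
  have hsp := h.one.sp
  have hBe := elementary_of_le h.hA hBA
  haveI := hBe.1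
  have hBq := h.isPGroup_of_le hBA
  have hB1 : B ≠ ⊥ := fun hb => hB (by subst hb; infer_instance)
  have hefix : ¬ Fix P e := fun hf => not_uniq_of_elem h.one.qp le_rfl hBe hB
    (h.one.fix_uniq h.one.hr h.one.hq h.one.hpr.symm h.one.hpq.symm h.one.hqr.symm heo hf heB)
  have hefix' : ∀ v ∈ P, Commute e v → v = 1 := fun v hv hev =>
    by_contra fun hv1 => hefix ⟨v, hv, hv1, hev⟩
  obtain ⟨E, hEK, hE, hEnc⟩ := h.exists_E
  haveI := hE.1
  have hrsB : ∀ f : G, orderOf f = s → Commute f e → ∀ b ∈ B, Commute f b → b = 1 :=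
    fun f hfo hfe b hb hfb => h.rs_fixed heo hfo hfe.symm (hBA hb) (heB b hb) hfb
  obtain ⟨f₁, hf₁, hf₁1, hf₁e⟩ : ∃ f ∈ E, f ≠ 1 ∧ ¬ Commute f e := by
    by_contra hall
    obtain ⟨x, hx, hx1, b, hb, hb1, hxb⟩ := exists_fix_noncyclic hEnc (hEK.trans hKB)
      (coprime_card hsp h.one.qp h.one.hqs.symm (isPGroup_of_elem hE) hBq) hB1
    exact hb1 (hrsB x (orderOf_of_mem_elem hsp hE hx hx1)
      (by_contra fun hc => hall ⟨x, hx, hx1, hc⟩) b hb hxb)
  have hf₁o := orderOf_of_mem_elem hsp hE hf₁ hf₁1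
  have hsr : s ∣ r - 1 := by_contra fun hnd =>
    hf₁e (commute_of_not_dvd hrp hsp heo (hKe (hEK hf₁)) hf₁o hnd)
  have hsr' : s ≤ r - 1 := Nat.le_of_dvd (by have := hrp.two_le; omega) hsr
  have hrs' : ¬ r ∣ s - 1 :=
    fun hd => by
      have := hsp.two_le
      have := Nat.le_of_dvd (by omega) hd
      omega
  have hr2 : r ≠ 2 := by have := hsp.two_le; omega
  obtain ⟨f, hf, hf1, hfo, hfe⟩ := exists_centralizing hrp hsp h.one.hrs.symm hE hEnc heo
    (hEK.trans hKe)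
  have hfB : ∀ b ∈ B, Commute f b → b = 1 := hrsB f hfo hfe
  have fixB : ∀ g ∈ K, orderOf g = s → (∀ b ∈ B, Commute g b → b = 1) → Fix P g :=
    fun g hg hgo hg' => h.one.fix_of_fpf h.one.hs h.one.hq h.one.hps.symm h.one.hpq.symm
      h.one.hqs.symm hgo hBq hB1 (hKB hg) hg'
  have hffix : Fix P f := fixB f (hEK hf) hfo hfB
  -- every element of `E` that moves `e` fixes a point
  have hmovefix : ∀ g ∈ E, g ≠ 1 → ¬ Commute g e → Fix P g := by
    intro g hg hg1 hge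
    obtain ⟨v, hv, hv1, -, hgv⟩ := h.one.fix_relative h.one.hs h.one.hr h.one.hps.symm h.one.hpr.symm
      h.one.hrs.symm heo (orderOf_of_mem_elem hsp hE hg hg1) (hKe (hEK hg)) hge hfe
      (commute_of_mem_elem hE hf hg) hffix (fun v hv _ hev => hefix' v hv hev)
    exact ⟨v, hv, hv1, hgv⟩
  have hline : ∀ g ∈ E, g ≠ 1 → ¬ Commute g e → ∀ a ∈ B, ∀ b ∈ B, a ≠ 1 → Commute g a →
      Commute g b → b ∈ zpowers a := by
    intro g hg hg1 hge a ha b hb ha1 hga hgb
    have hgo := orderOf_of_mem_elem hsp hE hg hg1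
    have hu := h.one.fix_uniq h.one.hs h.one.hq h.one.hps.symm h.one.hpq.symm h.one.hqs.symm hgo
      (hmovefix g hg hg1 hge) (H := B ⊓ centralizer (zpowers g : Set G))
      (fun y hy => mem_centralizer_iff.mp hy.2 g (mem_zpowers g))
    by_cases hb1 : b = 1
    · rw [hb1]; exact one_mem _
    exact hu a ⟨ha, mem_centralizer_zpowers hga⟩ b ⟨hb, mem_centralizer_zpowers hgb⟩
      (orderOf_of_mem_elem h.one.qp hBe ha ha1) (orderOf_of_mem_elem h.one.qp hBe hb hb1)
      (commute_of_mem_elem hBe ha hb)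
  obtain ⟨E₂, hE₂K, hE₂, hE₂nc⟩ := h.swap.exists_E
  -- the `s`-core is trivial
  have hcs : coreIn s K = ⊥ := by
    by_contra hne
    set L := coreIn s K
    have hLK := coreIn_le s K
    have hLe : ∀ x ∈ L, Commute x e := by
      intro x hx
      have hd : Disjoint L (zpowers e) := disjoint_iff.mpr (card_eq_one.mp
        (Nat.eq_one_of_dvd_coprimes (coprime_card hsp hrp h.one.hrs.symm (coreIn_isPGroup s K)
          (isPGroup_zpowers hrp heo)) (card_dvd_of_le inf_le_left) (card_dvd_of_le inf_le_right)))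
      have h1 : x * e * x⁻¹ * e⁻¹ ∈ L ⊓ zpowers e := mem_inf.mpr ⟨by
        have := mul_mem hx ((mem_normalizer_iff.mp (le_normalizer_coreIn s K he) _).mp (inv_mem hx))
        simpa [mul_assoc] using this,
        mul_mem ((mem_normalizer_iff.mp (hKe (hLK hx)) e).mp (mem_zpowers e))
          (inv_mem (mem_zpowers e))⟩
      rw [disjoint_iff.mp hd, mem_bot, mul_inv_eq_one, mul_inv_eq_iff_eq_mul] at h1
      exact h1
    have hu : Uniq s L := by
      by_contra hnu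
      obtain ⟨E', hE'L, hE', hE'nc⟩ := exists_elem_of_not_uniq hsp hnu
      haveI := hE'.1
      obtain ⟨g, hg, hg1, b, hb, hb1, hgb⟩ := exists_fix_noncyclic hE'nc
        ((hE'L.trans hLK).trans hKB)
        (coprime_card hsp h.one.qp h.one.hqs.symm (isPGroup_of_elem hE') hBq) hB1
      exact hb1 (hrsB g (orderOf_of_mem_elem hsp hE' hg hg1) (hLe g (hE'L hg)) b hb hgb)
    obtain ⟨z, hz, hzo, -, hzN⟩ := uniq_prime hsp (coreIn_isPGroup s K) hne hu
    refine not_uniq_of_elem hrp le_rfl hE₂ hE₂nc (h.one.fix_uniq h.one.hs h.one.hr h.one.hps.symm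
      h.one.hpr.symm h.one.hrs.symm hzo
      (fixB z (hLK hz) hzo (hrsB z hzo (hLe z hz))) fun y hy => ?_)
    by_cases hy1 : y = 1
    · rw [hy1]; exact Commute.one_right z
    exact (commute_of_not_dvd hsp hrp hzo (hzN (le_normalizer_coreIn s K (hE₂K hy)))
      (orderOf_of_mem_elem hrp hE₂ hy hy1) hrs').symm
  set R := coreIn r K with hRdef
  have hRK := coreIn_le r K
  have hRp := coreIn_isPGroup r K
  haveI := Fact.mk hrp
  have hKR := le_normalizer_coreIn r K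
  have heR : e ∈ R := le_coreIn (zpowers_le.mpr he) hKe (isPGroup_zpowers hrp heo) (mem_zpowers e)
  have hself : K ⊓ centralizer (R : Set G) ≤ R := inf_centralizer_coreIn_le fun l hl hd hlr => by
    rcases h.prime_mem hl le_rfl hd with rfl | rfl
    · exact absurd rfl hlr
    · exact hcs
  have hfR : ¬ zpowers f ≤ centralizer (R : Set G) := by
    intro hle
    have hfm : f ∈ R := hself ⟨hEK hf, hle (mem_zpowers f)⟩
    exact h.one.hrs.symm ((Nat.prime_dvd_prime_iff_eq hsp hrp).mp (by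
      obtain ⟨k, hk⟩ := hRp ⟨f, hfm⟩
      exact hsp.dvd_of_dvd_pow (hfo ▸ orderOf_dvd_of_pow_eq_one (congrArg Subtype.val hk))))
  set D := R ⊓ centralizer (B : Set G)
  have hfD : f ∈ normalizer (D : Set G) :=
    mem_normalizer_inf_centralizer (hKR (hEK hf)) (hKB (hEK hf))
  have hDu : Uniq r D := by
    by_contra hnu
    obtain ⟨E', hE'D, hE', hE'nc⟩ := exists_elem_of_not_uniq hrp hnu
    haveI := hE'.1
    obtain ⟨g, hg, hg1, v, hv, hv1, hgv⟩ := exists_fix_noncyclic hE'nc (h.one.le_normalizer E')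
      (coprime_card hrp h.one.pp h.one.hpr.symm (isPGroup_of_elem hE') h.one.hP)
      (h.one.ne_bot hf1)
    exact not_uniq_of_elem h.one.qp le_rfl hBe hB (h.one.fix_uniq h.one.hr h.one.hq h.one.hpr.symm
      h.one.hpq.symm h.one.hqr.symm (orderOf_of_mem_elem hrp hE' hg hg1) ⟨v, hv, hv1, hgv⟩
      (fun b hb => (mem_centralizer_iff.mp (hE'D hg).2 b hb).symm))
  have heD : e ∈ D := ⟨heR, mem_centralizer_iff.mpr fun b hb => (heB b hb).symm.eq⟩
  have hfDc : zpowers f ≤ centralizer (D : Set G) := by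
    rw [zpowers_le]
    refine Coprime.OmegaDetect.mem_centralizer_of_fix (p := r)
      (by rw [hfo]; exact (Nat.coprime_primes hsp hrp).mpr h.one.hrs.symm) (hRp.to_le inf_le_left)
      hfD fun a ha hcase => ?_
    have har := hcase.resolve_right fun h2 => hr2 h2.1
    by_cases ha1 : a = 1
    · simp [ha1]
    obtain ⟨i, rfl⟩ := hDu e heD a ha heo (orderOf_eq_prime har ha1)
      (commute_of_same_prime hrp heo (hKe (hRK ha.1)) hRp ha.1).symm
    exact (hfe.zpow_right i).eq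
  set X := R ⊓ centralizer (zpowers f : Set G)
  have hXc : ∀ x ∈ X, Commute f x := fun x hx => mem_centralizer_iff.mp hx.2 f (mem_zpowers f)
  have hXp : IsPGroup r X := hRp.to_le inf_le_left
  have hXu : Uniq r X := h.one.fix_uniq h.one.hs h.one.hr h.one.hps.symm h.one.hpr.symm
    h.one.hrs.symm hfo hffix hXc
  have heX : e ∈ X := ⟨heR, mem_centralizer_zpowers hfe⟩
  have hXB : X ≤ normalizer (B : Set G) := (inf_le_left.trans hRK).trans hKB
  have hXcop : (Nat.card X).Coprime (Nat.card B) := coprime_card hrp h.one.qp h.one.hqr.symm hXp hBq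
  have hEX : ∀ g ∈ E, g ∈ normalizer (X : Set G) := fun g hg => mem_normalizer_inf_centralizer
    (hKR (hEK hg)) (commute_mem_normalizer_zpowers (commute_of_mem_elem hE hg hf))
  have hXfpf : ∀ g : G, ¬ Commute g e → ∀ x ∈ X, Commute g x → x = 1 := by
    intro g hge x hx hgx
    by_contra hx1
    obtain ⟨n, hn, hnX⟩ := exists_pow_orderOf hrp hXp hx hx1
    exact hrp.ne_one (by
      rw [← hn, eq_one_of_moves hrp heo hge (hXu e heX _ hnX heo hn
        (commute_of_same_prime hrp heo (hKe (hRK hnX.1)) hRp hnX.1).symm) (hgx.pow_right n),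
        orderOf_one])
  -- `X` acts nontrivially on `B`
  have hXnc : ¬ X ≤ centralizer (B : Set G) := by
    intro hle
    refine hfR ?_
    have hR : R ≤ centralizer (B : Set G) := by
      refine le_centralizer_of_rel hsp.pos (hfo ▸ pow_orderOf_eq_one f) (hKR (hEK hf)) ?_
        (Coprime.isSolvable_of_isMulCommutative B) (coprime_card_prime h.one.qp hsp h.one.hqs hBq)
        (coprime_card h.one.qp hrp h.one.hqr hBq hRp) (coprime_card_prime hrp hsp h.one.hrs hRp)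
        (hKB (hEK hf)) (hRK.trans hKB) ?_
      · intro i hi0 his y hy hiy
        refine hle ⟨hy, mem_centralizer_zpowers ?_⟩
        obtain ⟨m, hm⟩ := Nat.exists_mul_mod_eq_one_of_coprime
          ((hsp.coprime_iff_not_dvd.mpr (Nat.not_dvd_of_pos_of_lt hi0 his)).symm) hsp.one_lt
        have h4 := hiy.pow_left m
        rwa [← pow_mul, ← pow_mod_orderOf, hfo, hm.2, pow_one] at h4
      · intro b hb hfb y _
        rw [hfB b hb hfb]; exact Commute.one_right y
    exact fun z hz => centralizer_le (fun w hw => (⟨hw, hR hw⟩ : w ∈ D)) (hfDc hz)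
  set B₂ := ⁅B, X⁆ with hB₂
  have hB₂B : B₂ ≤ B := Coprime.commutator_le_of_le_normalizer hXB
  have hB₂nc : ¬ X ≤ centralizer (B₂ : Set G) := fun hle =>
    hXnc (Coprime.le_centralizer_of_commutator_commutator_eq_bot hXB hXcop
      (Or.inr (Coprime.isSolvable_of_isMulCommutative B))
      (Coprime.commutator_eq_bot_iff_le_centralizer'.mpr hle))
  have hEB : ∀ g ∈ E, g ∈ normalizer (B : Set G) := fun g hg => hKB (hEK hg)
  have hEC : ∀ g ∈ E, g ∈ normalizer ((B ⊓ centralizer (X : Set G) : Subgroup G) : Set G) :=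
    fun g hg => mem_normalizer_inf_centralizer (hEB g hg) (hEX g hg)
  have hCB : B ⊓ centralizer (X : Set G) = ⊥ := by
    by_contra hne
    obtain ⟨g, hg, hg1, b, hb, hb1, hgb⟩ := exists_fix_noncyclic hEnc hEC
      (coprime_card hsp h.one.qp h.one.hqs.symm (isPGroup_of_elem hE) (hBq.to_le inf_le_left)) hne
    have hgo := orderOf_of_mem_elem hsp hE hg hg1
    by_cases hge : Commute g e
    · exact hb1 (hrsB g hgo hge b hb.1 hgb)
    obtain ⟨b₂, hb₂, hb₂1, hgb₂⟩ := exists_fixed hsp h.one.qp h.one.hqs hgo (hBq.to_le hB₂B)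
      (coprime_card h.one.qp hrp h.one.hqr (hBq.to_le hB₂B) hXp)
      (coprime_card_prime hrp hsp h.one.hrs hXp) (hEX g hg)
      (mem_normalizer_commutator (hEB g hg) (hEX g hg))
      (normalizer_commutator_ge_right B X)
      (fun x hx hgx => by rw [hXfpf g hge x hx hgx]; exact one_mem _) hB₂nc
    obtain ⟨i, hi⟩ := hline g hg hg1 hge b hb.1 b₂ (hB₂B hb₂) hb1 hgb hgb₂
    have h2 : b₂ ∈ (B ⊓ centralizer (X : Set G)) ⊓ ⁅B, X⁆ := ⟨hi ▸ zpow_mem hb i, hb₂⟩
    rw [Coprime.inf_centralizer_inf_commutator hXB hXcop] at h2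
    exact hb₂1 (mem_bot.mp h2)
  -- `f` acts as a power on `B`
  obtain ⟨x₀, hx₀, hx₀1, hf₁x₀⟩ := exists_fixed hsp h.one.qp h.one.hqs hf₁o hBq
      (coprime_card h.one.qp hrp h.one.hqr hBq hXp) (coprime_card_prime hrp hsp h.one.hrs hXp)
      (hEX f₁ hf₁) (hEB f₁ hf₁) hXB
      (fun x hx hgx => by rw [hXfpf f₁ hf₁e x hx hgx]; exact one_mem _) hXnc
  have hff₁ : Commute f f₁ := commute_of_mem_elem hE hf hf₁
  obtain ⟨μ, hμ⟩ : ∃ μ : ℤ, f * x₀ * f⁻¹ = x₀ ^ μ := by
    obtain ⟨μ, hμ⟩ := hline f₁ hf₁ hf₁1 hf₁e x₀ hx₀ (f * x₀ * f⁻¹)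
      ((mem_normalizer_iff.mp (hEB f hf) x₀).mp hx₀) hx₀1 hf₁x₀ (by
        have := hf₁x₀.map (MulAut.conj f).toMonoidHom
        simpa [hff₁.eq] using this)
    exact ⟨μ, hμ.symm⟩
  let φ : B →* B :=
    { toFun := fun b => ⟨f * b * f⁻¹ * ((b : G) ^ μ)⁻¹,
        mul_mem ((mem_normalizer_iff.mp (hEB f hf) b).mp b.2) (inv_mem (zpow_mem b.2 μ))⟩
      map_one' := Subtype.ext (by simp)
      map_mul' := fun a b => Subtype.ext (by
        have hab : Commute (a : G) b := commute_of_mem_elem hBe a.2 b.2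
        have hcd : Commute ((a : G) ^ μ)⁻¹ (f * b * f⁻¹) :=
          commute_of_mem_elem hBe (inv_mem (zpow_mem a.2 μ))
            ((mem_normalizer_iff.mp (hEB f hf) b).mp b.2)
        simp only [Subgroup.coe_mul, hab.mul_zpow]
        rw [mul_inv_rev, ((hab.zpow_zpow μ μ).inv_inv).symm.eq]
        calc f * (↑a * ↑b) * f⁻¹ * (((a : G) ^ μ)⁻¹ * ((b : G) ^ μ)⁻¹)
            = f * ↑a * f⁻¹ * ((f * ↑b * f⁻¹) * ((a : G) ^ μ)⁻¹) * ((b : G) ^ μ)⁻¹ := by group
          _ = _ := by rw [← hcd.eq]; group) }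
  have hφ : ∀ (g : G) (hg : g ∈ normalizer (B : Set G)), Commute g f → ∀ b : B,
      g * (φ b : G) * g⁻¹ = φ ⟨g * b * g⁻¹, (mem_normalizer_iff.mp hg b).mp b.2⟩ := by
    intro g hg hgf b
    show g * (f * b * f⁻¹ * ((b : G) ^ μ)⁻¹) * g⁻¹ =
      f * (g * b * g⁻¹) * f⁻¹ * ((g * (b : G) * g⁻¹) ^ μ)⁻¹
    rw [conj_zpow]
    calc g * (f * b * f⁻¹ * ((b : G) ^ μ)⁻¹) * g⁻¹
        = (g * f) * b * (g * f)⁻¹ * (g * ((b : G) ^ μ)⁻¹ * g⁻¹) := by group
      _ = (f * g) * b * (f * g)⁻¹ * (g * ((b : G) ^ μ)⁻¹ * g⁻¹) := by rw [hgf.eq]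
      _ = _ := by group
  set M := φ.range.map B.subtype
  have hMB : M ≤ B := map_subtype_le _
  have hnormM : ∀ g ∈ normalizer (B : Set G), Commute g f → g ∈ normalizer (M : Set G) := by
    intro g hg hgf
    refine mem_normalizer_fintype fun y hy => ?_
    obtain ⟨_, ⟨b, rfl⟩, rfl⟩ := hy
    exact ⟨_, ⟨_, rfl⟩, (hφ g hg hgf b).symm⟩
  have hM : M = ⊥ := by
    by_contra hne
    obtain ⟨w, hw, hw1, hf₁w⟩ := exists_fixed hsp h.one.qp h.one.hqs hf₁o (hBq.to_le hMB)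
      (coprime_card h.one.qp hrp h.one.hqr (hBq.to_le hMB) hXp)
      (coprime_card_prime hrp hsp h.one.hrs hXp) (hEX f₁ hf₁) (hnormM f₁ (hEB f₁ hf₁) hff₁.symm)
      (fun x hx => hnormM x (hXB hx) (hXc x hx).symm)
      (fun x hx hgx => by rw [hXfpf f₁ hf₁e x hx hgx]; exact one_mem _)
      (fun hle => hne (le_bot_iff.mp (hCB ▸ le_inf hMB
        (fun y hy => mem_centralizer_iff.mpr fun x hx =>
          ((mem_centralizer_iff.mp (hle hx) y hy)).symm))))
    obtain ⟨_, ⟨b, rfl⟩, rfl⟩ := hw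
    set U := φ.ker.map B.subtype
    have hnormU : ∀ g ∈ normalizer (B : Set G), Commute g f → g ∈ normalizer (U : Set G) := by
      intro g hg hgf
      refine mem_normalizer_fintype fun y hy => ?_
      obtain ⟨u, hu, rfl⟩ := hy
      refine ⟨⟨g * u * g⁻¹, (mem_normalizer_iff.mp hg u).mp u.2⟩, Subtype.ext ?_, rfl⟩
      rw [← hφ g hg hgf u, show φ u = 1 from hu]
      simp
    obtain ⟨c, ⟨hcB, hcC⟩, hbc⟩ := Coprime.exists_fixed_mod (A := zpowers f₁) (K := B) (N := U)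
      (k := (b : G)) (coprime_card hsp h.one.qp h.one.hqs.symm (isPGroup_zpowers hsp hf₁o) hBq)
      (Or.inr (Coprime.isSolvable_of_isMulCommutative B)) (map_subtype_le _)
      (fun x hx => mem_normalizer_of_commute fun y hy =>
        commute_of_mem_elem hBe hx (map_subtype_le _ hy))
      (zpowers_le.mpr (hnormU f₁ (hEB f₁ hf₁) hff₁.symm)) b.2 (by
        rintro _ ⟨j, rfl⟩
        have hj : f₁ ^ j ∈ normalizer (B : Set G) := zpow_mem (hEB f₁ hf₁) j
        refine ⟨⟨f₁ ^ j * b * (f₁ ^ j)⁻¹, (mem_normalizer_iff.mp hj b).mp b.2⟩ * b⁻¹, ?_, rfl⟩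
        show φ _ = 1
        rw [map_mul, map_inv, mul_inv_eq_one]
        refine Subtype.ext ?_
        rw [← hφ _ hj (hff₁.symm.zpow_left j) b]
        exact mul_inv_eq_iff_eq_mul.mpr (hf₁w.zpow_left j).eq)
    obtain ⟨u, hu, hueq⟩ := hbc
    have hφc : φ ⟨c, hcB⟩ = 1 := by
      obtain ⟨i, hi⟩ := hline f₁ hf₁ hf₁1 hf₁e x₀ hx₀ c hcB hx₀1 hf₁x₀
        (mem_centralizer_iff.mp hcC f₁ (mem_zpowers f₁))
      refine Subtype.ext ?_
      show f * c * f⁻¹ * (c ^ μ)⁻¹ = 1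
      rw [← hi, ← conj_zpow, hμ, ← zpow_mul, ← zpow_mul, mul_comm μ i, mul_inv_cancel]
    have hc' : (⟨c, hcB⟩ : B) = b * u := by
      refine Subtype.ext ?_
      rw [Subgroup.coe_mul, show (u : G) = (b : G)⁻¹ * c from hueq, mul_inv_cancel_left]
    rw [hc', map_mul, show φ u = 1 from hu, mul_one] at hφc
    exact hw1 (by simp [hφc])
  have hpow : ∀ b ∈ B, f * b * f⁻¹ = b ^ μ := by
    intro b hb
    have h2 : (φ ⟨b, hb⟩ : G) ∈ M := ⟨_, ⟨_, rfl⟩, rfl⟩
    rw [hM, mem_bot] at h2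
    exact mul_inv_eq_one.mp h2
  -- so `f` centralizes `R`
  refine hfR (Coprime.le_centralizer_of_series (N := D) (zpowers_le.mpr (hKR (hEK hf)))
    (coprime_card hsp hrp h.one.hrs.symm (isPGroup_zpowers hsp hfo) hRp)
    (Or.inl (Coprime.isSolvable_of_isMulCommutative _)) hfDc ?_)
  rw [commutator_le]
  intro x hx g hg
  obtain ⟨j, rfl⟩ := (isOfFinOrder_of_finite f).mem_powers_iff_mem_zpowers.mpr hg
  simp only
  have hfj : f ^ j ∈ normalizer (B : Set G) := pow_mem (hEB f hf) j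
  have hpj : ∀ n : ℕ, ∀ b ∈ B, f ^ n * b * (f ^ n)⁻¹ = b ^ (μ ^ n) := by
    intro n
    induction n with
    | zero => simp
    | succ n ih =>
      intro b hb
      calc f ^ (n + 1) * b * (f ^ (n + 1))⁻¹ = f * (f ^ n * b * (f ^ n)⁻¹) * f⁻¹ := by
            rw [pow_succ']; group
        _ = (f * b * f⁻¹) ^ (μ ^ n) := by rw [ih b hb, conj_zpow]
        _ = b ^ (μ ^ (n + 1)) := by rw [hpow b hb, ← zpow_mul, pow_succ']
  have hxB := hKB (hRK hx)
  refine ⟨by
    rw [commutatorElement_def]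
    have := mul_mem hx ((mem_normalizer_iff.mp (hKR (pow_mem (hEK hf) j)) _).mp (inv_mem hx))
    simpa [mul_assoc] using this, mem_centralizer_iff.mpr fun b hb => ?_⟩
  -- `x` commutes with the power map
  set c := (f ^ j)⁻¹ * (x⁻¹ * b * x) * f ^ j
  have hcB : c ∈ B :=
    (mem_normalizer_iff''.mp hfj _).mp ((mem_normalizer_iff''.mp hxB b).mp hb)
  have hxb : b = (x * c * x⁻¹) ^ (μ ^ j) := by
    rw [conj_zpow, ← hpj j c hcB]
    simp only [c]
    group
  have hkey : f ^ j * (x * c * x⁻¹) * (f ^ j)⁻¹ = b := by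
    rw [hpj j _ ((mem_normalizer_iff.mp hxB c).mp hcB), ← hxb]
  have : (x * f ^ j * x⁻¹ * (f ^ j)⁻¹) * b * (x * f ^ j * x⁻¹ * (f ^ j)⁻¹)⁻¹ = b := by
    conv_lhs => rw [← hkey]
    simp only [c]
    group
  rw [commutatorElement_def]
  exact (mul_inv_eq_iff_eq_mul.mp this).symm

/-- The action on `A` is faithful. -/
theorem faithful : K ⊓ centralizer (A : Set G) = ⊥ := by
  by_contra hne
  obtain ⟨L, hL, hKL, hL1, l, hl, hd, hel⟩ := exists_normal_elem inf_le_left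
    (fun g hg => mem_normalizer_inf_centralizer (le_normalizer hg) (h.hKA hg)) hne
  have hLK : L ≤ K := hL.trans inf_le_left
  have hc : ∀ x ∈ L, ∀ a ∈ A, Commute x a := fun x hx a ha =>
    (mem_centralizer_iff.mp (hL hx).2 a ha).symm
  have key : ∀ {r' s' : ℕ}, Mod σ p q r' s' P K A →
      Cfsg.IsElementaryAbelian r' L → False := fun {r' s'} k hr' => by
    rcases elem_cases k.one.rp hr' hL1 with hnc | ⟨e, he, heo, rfl⟩
    · haveI := hr'.1
      obtain ⟨y, -, hy1⟩ := (bot_or_exists_ne_one L).resolve_left hL1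
      have hP1 := k.one.ne_bot hy1
      obtain ⟨x, hx, hx1, v, hv, hv1, hxv⟩ := exists_fix_noncyclic hnc (k.one.le_normalizer L)
        (coprime_card k.one.rp k.one.pp k.one.hpr.symm (isPGroup_of_elem hr') k.one.hP) hP1
      exact not_uniq_of_elem k.one.qp le_rfl k.hA k.hnc (k.one.fix_uniq k.one.hr k.one.hq
        k.one.hpr.symm k.one.hpq.symm k.one.hqr.symm
        (orderOf_of_mem_elem k.one.rp hr' hx hx1) ⟨v, hv, hv1, hxv⟩ (hc x hx))
    · exact k.no_central_elem (hLK he) heo hKL le_rfl k.hnc k.hKA (hc e he)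
  rcases h.prime_mem hl inf_le_left hd with rfl | rfl
  · exact key h hel
  · exact key h.swap hel

/-- No subgroup of order `r` is normal in `K`. -/
theorem no_normal_prime {e : G} (he : e ∈ K) (heo : orderOf e = r)
    (hKe : K ≤ normalizer (zpowers e : Set G)) : False := by
  have hrp := h.one.rp
  have hsp := h.one.sp
  haveI := h.hA.1
  set B₀ := A ⊓ centralizer (zpowers e : Set G)
  set A₁ := ⁅A, zpowers e⁆ with hA₁
  have heA : zpowers e ≤ normalizer (A : Set G) := zpowers_le.mpr (h.hKA he)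
  have hcop : (Nat.card (zpowers e)).Coprime (Nat.card A) :=
    coprime_card hrp h.one.qp h.one.hqr.symm (isPGroup_zpowers hrp heo) (isPGroup_of_elem h.hA)
  have hB₀c : ∀ b ∈ B₀, Commute e b := fun b hb => mem_centralizer_iff.mp hb.2 e (mem_zpowers e)
  by_cases hB₀ : IsCyclic B₀
  swap
  · exact h.no_central_elem he heo hKe inf_le_left hB₀
      (fun g hg => mem_normalizer_inf_centralizer (h.hKA hg) (hKe hg)) hB₀c
  have hsplit : A₁ ⊔ B₀ = A := Coprime.commutator_sup_inf_centralizer heA hcop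
    (Or.inl (Coprime.isSolvable_of_isMulCommutative _))
  have hA₁1 : A₁ ≠ ⊥ := fun hb => h.hnc (by
    rw [hb, bot_sup_eq] at hsplit
    rwa [hsplit] at hB₀)
  have hA₁A : A₁ ≤ A := Coprime.commutator_le_of_le_normalizer heA
  have hA₁p := h.isPGroup_of_le hA₁A
  have hKA₁ : K ≤ normalizer (A₁ : Set G) := fun g hg =>
    mem_normalizer_commutator (h.hKA hg) (hKe hg)
  have hfpf : ∀ a ∈ A₁, Commute e a → a = 1 := fun a ha hea => by
    have h2 : a ∈ B₀ ⊓ A₁ := ⟨⟨hA₁A ha, mem_centralizer_zpowers hea⟩, ha⟩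
    rw [Coprime.inf_centralizer_inf_commutator heA hcop] at h2
    exact mem_bot.mp h2
  have hefix : Fix P e := h.one.fix_of_fpf h.one.hr h.one.hq h.one.hpr.symm h.one.hpq.symm
    h.one.hqr.symm heo hA₁p hA₁1 (hKA₁ he) hfpf
  obtain ⟨E, hEK, hE, hEnc⟩ := h.exists_E
  obtain ⟨f, hf, hf1, hfo, hfe⟩ := exists_centralizing hrp hsp h.one.hrs.symm hE hEnc heo
    (hEK.trans hKe)
  have hfA₁ := h.pair_centralizes he (hEK hf) heo hfo hfe.symm
  have hA₁e := elementary_of_le h.hA hA₁A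
  by_cases hA₁c : IsCyclic A₁
  · refine not_uniq_of_elem hsp le_rfl hE hEnc (h.one.fix_uniq h.one.hr h.one.hs h.one.hpr.symm
      h.one.hps.symm h.one.hrs heo hefix fun g hg => ?_)
    rcases elem_cases h.one.qp hA₁e hA₁1 with hnc | ⟨b, hb, hbo, hbA⟩
    · exact absurd hA₁c hnc
    have hpw : ∀ g ∈ K, ∃ i : ℤ, g * b * g⁻¹ = b ^ i := fun g hg => by
      have h2 := (mem_normalizer_iff.mp (hKA₁ hg) b).mp hb
      rw [hbA] at h2
      obtain ⟨i, hi⟩ := mem_zpowers_iff.mp h2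
      exact ⟨i, hi.symm⟩
    obtain ⟨i, hi⟩ := hpw e he
    obtain ⟨k, hk⟩ := hpw g (hEK hg)
    have hcomm : g * e * g⁻¹ * e⁻¹ ∈ zpowers e :=
      mul_mem ((mem_normalizer_iff.mp (hKe (hEK hg)) e).mp (mem_zpowers e)) (inv_mem (mem_zpowers e))
    have hfix : Commute (g * e * g⁻¹ * e⁻¹) b := by
      have h1 : (g * e) * b * (g * e)⁻¹ = (e * g) * b * (e * g)⁻¹ := by
        calc (g * e) * b * (g * e)⁻¹ = g * (e * b * e⁻¹) * g⁻¹ := by group
          _ = (b ^ k) ^ i := by rw [hi, ← conj_zpow, hk]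
          _ = (b ^ i) ^ k := by rw [← zpow_mul, ← zpow_mul, mul_comm]
          _ = e * (g * b * g⁻¹) * e⁻¹ := by rw [hk, ← conj_zpow, hi]
          _ = (e * g) * b * (e * g)⁻¹ := by group
      have h2 : (g * e * g⁻¹ * e⁻¹) * b * (g * e * g⁻¹ * e⁻¹)⁻¹ = b := by
        calc (g * e * g⁻¹ * e⁻¹) * b * (g * e * g⁻¹ * e⁻¹)⁻¹
            = (g * e) * ((e * g)⁻¹ * b * (e * g)) * (g * e)⁻¹ := by group
          _ = b := by
            have hb' : (e * g)⁻¹ * b * (e * g) ∈ zpowers b := by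
              have h3 := (mem_normalizer_iff''.mp (hKA₁ (mul_mem he (hEK hg))) b).mp hb
              rwa [← hbA]
            obtain ⟨m, hm⟩ := mem_zpowers_iff.mp hb'
            rw [← hm, ← conj_zpow, h1, conj_zpow, hm]
            group
      exact mul_inv_eq_iff_eq_mul.mp h2
    by_contra hne
    have hne1 : g * e * g⁻¹ * e⁻¹ ≠ 1 := fun h1 =>
      hne (mul_inv_eq_iff_eq_mul.mp (mul_inv_eq_one.mp h1) : Commute g e).symm
    have hb1 : b ≠ 1 := fun hb1 => h.one.qp.ne_one (by rw [← hbo, hb1, orderOf_one])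
    exact hne1 (eq_one_of_moves hrp heo (fun hc => hb1 (hfpf b hb hc.symm)) hcomm hfix.symm)
  have hfnofix : ¬ Fix P f := fun hff => not_uniq_of_elem h.one.qp le_rfl hA₁e hA₁c
    (h.one.fix_uniq h.one.hs h.one.hq h.one.hps.symm h.one.hpq.symm h.one.hqs.symm hfo hff hfA₁)
  have hB₀1 : B₀ = ⊥ := by
    by_contra hne
    exact hfnofix (h.one.fix_of_fpf h.one.hs h.one.hq h.one.hps.symm h.one.hpq.symm
      h.one.hqs.symm hfo (h.isPGroup_of_le inf_le_left) hne
      (mem_normalizer_inf_centralizer (h.hKA (hEK hf)) (hKe (hEK hf)))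
      (fun b hb hfb => h.rs_fixed heo hfo hfe.symm hb.1 (hB₀c b hb) hfb))
  rw [hB₀1, sup_bot_eq] at hsplit
  have hfC : f ∈ K ⊓ centralizer (A : Set G) :=
    ⟨hEK hf, mem_centralizer_iff.mpr fun a ha => (hfA₁ a (hsplit.ge ha)).symm.eq⟩
  rw [h.faithful, mem_bot] at hfC
  exact hf1 hfC

/-- No noncyclic elementary `r`-subgroup is normal in `K`. -/
theorem no_normal_elem {L : Subgroup G} (hLK : L ≤ K) (hKL : K ≤ normalizer (L : Set G))
    (hL : Cfsg.IsElementaryAbelian r L) (hLnc : ¬ IsCyclic L) : False := by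
  have hrp := h.one.rp
  have hsp := h.one.sp
  haveI := hL.1
  haveI := h.hA.1
  obtain ⟨E, hEK, hE, hEnc⟩ := h.exists_E
  haveI := hE.1
  have hA₁ne : ∀ x ∈ L, x ≠ 1 → ⁅A, zpowers x⁆ ≠ ⊥ := by
    intro x hx hx1 hb
    have hxC : x ∈ K ⊓ centralizer (A : Set G) :=
      ⟨hLK hx, Coprime.commutator_eq_bot_iff_le_centralizer'.mp hb (mem_zpowers x)⟩
    rw [h.faithful, mem_bot] at hxC
    exact hx1 hxC
  have huniq : ∀ f ∈ E, f ≠ 1 → Uniq r (L ⊓ centralizer (zpowers f : Set G)) := by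
    intro f hf hf1
    by_contra hnu
    obtain ⟨E', hE'X, hE', hE'nc⟩ := exists_elem_of_not_uniq hrp hnu
    obtain ⟨x, hx, hx1⟩ := (bot_or_exists_ne_one E').resolve_left
      (fun hb => hE'nc (by subst hb; infer_instance))
    have hcf : ∀ y ∈ E', Commute f y := fun y hy =>
      mem_centralizer_iff.mp (hE'X hy).2 f (mem_zpowers f)
    have hfA := h.pair_centralizes (hLK (hE'X hx).1) (hEK hf) (orderOf_of_mem_elem hrp hE' hx hx1)
      (orderOf_of_mem_elem hsp hE hf hf1) (hcf x hx).symm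
    obtain ⟨a, ha, ha1⟩ := (bot_or_exists_ne_one _).resolve_left (hA₁ne x (hE'X hx).1 hx1)
    have haA : a ∈ A := Coprime.commutator_le_of_le_normalizer
      (zpowers_le.mpr (h.hKA (hLK (hE'X hx).1))) ha
    refine h.one.ctx.triple_group h.one.hs h.one.hr h.one.hq h.one.hrs.symm h.one.hqr.symm
      h.one.hqs.symm (orderOf_of_mem_elem hsp hE hf hf1) hE' hE'nc hcf
      ((isPGroup_of_elem h.hA).to_le (inf_le_left : A ⊓ centralizer (zpowers f : Set G) ≤ A)) ?_ ?_ ?_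
    · exact fun hb => ha1 ((eq_bot_iff_forall _).mp hb a ⟨haA, mem_centralizer_zpowers (hfA a ha)⟩)
    · exact fun y hy => mem_normalizer_inf_centralizer (h.hKA (hLK (hE'X hy).1))
        (commute_mem_normalizer_zpowers (hcf y hy).symm)
    · exact fun w hw => mem_centralizer_iff.mp hw.2 f (mem_zpowers f)
  have hcopE : (Nat.card E).Coprime (Nat.card L) :=
    coprime_card hsp hrp h.one.hrs.symm (isPGroup_of_elem hE) (isPGroup_of_elem hL)
  have hL1 : L ≠ ⊥ := fun hb => hLnc (by subst hb; infer_instance)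
  obtain ⟨f₁, hf₁, hf₁1, x₁, hx₁, hx₁1, hfx₁⟩ :=
    exists_fix_noncyclic hEnc (hEK.trans hKL) hcopE hL1
  obtain ⟨f₂, hf₂, hf₂1, x₂, hx₂, hx₂n, hfx₂⟩ :
      ∃ f ∈ E, f ≠ 1 ∧ ∃ x ∈ L, x ∉ zpowers x₁ ∧ Commute f x := by
    by_contra hne
    refine not_uniq_of_elem hrp (le_rfl : L ≤ L) hL hLnc ((uniq_of_isCyclic hrp inferInstance).mono
      (L := zpowers x₁) ((Coprime.fixedGen_eq hEnc (hEK.trans hKL) hcopE).ge.trans
        (iSup₂_le fun f hf x hx => by_contra fun hn => hne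
          ⟨f, hf.1, hf.2, x, hx.1, hn, (mem_centralizer_singleton_iff.mp hx.2).symm⟩)))
  have hx₂1 : x₂ ≠ 1 := fun h1 => hx₂n (h1 ▸ one_mem _)
  have hf₁o := orderOf_of_mem_elem hsp hE hf₁ hf₁1
  have hf₂o := orderOf_of_mem_elem hsp hE hf₂ hf₂1
  have hx₁o := orderOf_of_mem_elem hrp hL hx₁ hx₁1
  have hx₂o := orderOf_of_mem_elem hrp hL hx₂ hx₂1
  have hmv : ∀ {f x y : G}, f ∈ E → f ≠ 1 → x ∈ L → y ∈ L → x ≠ 1 → y ≠ 1 → y ∉ zpowers x →
      Commute f y → ¬ Commute f x := by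
    intro f x y hf hf1 hx hy hx1 hy1 hn hfy hfx
    exact hn (huniq f hf hf1 x ⟨hx, mem_centralizer_zpowers hfx⟩ y ⟨hy, mem_centralizer_zpowers hfy⟩
      (orderOf_of_mem_elem hrp hL hx hx1) (orderOf_of_mem_elem hrp hL hy hy1)
      (commute_of_mem_elem hL hx hy))
  have hn' : x₁ ∉ zpowers x₂ := fun hm => hx₂n (by
    rw [eq_of_le_of_card_ge (zpowers_le.mpr hm)
      (by rw [Nat.card_zpowers, Nat.card_zpowers, hx₁o, hx₂o])]
    exact mem_zpowers _)
  have hm₂ : ¬ Commute f₂ x₁ := hmv hf₂ hf₂1 hx₁ hx₂ hx₁1 hx₂1 hx₂n hfx₂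
  have hm₁ : ¬ Commute f₁ x₂ := hmv hf₁ hf₁1 hx₂ hx₁ hx₂1 hx₁1 hn' hfx₁
  have hnormx : ∀ {f g x : G}, f ∈ E → f ≠ 1 → g ∈ E → x ∈ L → x ≠ 1 → Commute f x →
      g ∈ normalizer (zpowers x : Set G) := by
    intro f g x hf hf1 hg hx hx1 hfx
    rw [← Coprime.conj_smul_eq_self_iff]
    refine eq_of_le_of_card_ge ?_ (Coprime.card_conj_smul _ _).ge
    rw [Coprime.conj_smul_eq_map, MonoidHom.map_zpowers, zpowers_le]
    have hgx : g * x * g⁻¹ ∈ L := (mem_normalizer_iff.mp (hKL (hEK hg)) x).mp hx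
    refine huniq f hf hf1 x ⟨hx, mem_centralizer_zpowers hfx⟩ _ ⟨hgx, mem_centralizer_zpowers ?_⟩
      (orderOf_of_mem_elem hrp hL hx hx1) (by
        show orderOf (g * x * g⁻¹) = r
        rw [orderOf_conj, orderOf_of_mem_elem hrp hL hx hx1]) (commute_of_mem_elem hL hx hgx)
    have := hfx.map (MulAut.conj g).toMonoidHom
    simpa [(commute_of_mem_elem hE hg hf).eq] using this
  -- a point of `[A, x]` fixed by `E`-elements
  have hw : ∀ {f g x : G}, f ∈ E → f ≠ 1 → g ∈ E → g ≠ 1 → x ∈ L → x ≠ 1 → Commute f x →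
      ¬ Commute g x → ∃ w ∈ ⁅A, zpowers x⁆, w ≠ 1 ∧ Commute f w ∧ Commute g w := by
    intro f g x hf hf1 hg hg1 hx hx1 hfx hgx
    have hxo := orderOf_of_mem_elem hrp hL hx hx1
    have hxA : zpowers x ≤ normalizer (A : Set G) := zpowers_le.mpr (h.hKA (hLK hx))
    have hA' : ⁅A, zpowers x⁆ ≤ A := Coprime.commutator_le_of_le_normalizer hxA
    have hnx := hnormx hf hf1 hg hx hx1 hfx
    obtain ⟨w, hw, hw1, hgw⟩ := exists_fixed hsp h.one.qp h.one.hqs
      (orderOf_of_mem_elem hsp hE hg hg1) (h.isPGroup_of_le hA')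
      (coprime_card h.one.qp hrp h.one.hqr (h.isPGroup_of_le hA') (isPGroup_zpowers hrp hxo))
      (by rw [Nat.card_zpowers, hxo]; exact (Nat.coprime_primes hrp hsp).mpr h.one.hrs) hnx
      (mem_normalizer_commutator (h.hKA (hEK hg)) hnx)
      (normalizer_commutator_ge_right A (zpowers x))
      (centralizer_zpowers_fixed hrp hxo hgx) (fun hle => by
        obtain ⟨a, ha, ha1⟩ := (bot_or_exists_ne_one _).resolve_left (hA₁ne x hx hx1)
        have h2 : a ∈ (A ⊓ centralizer (zpowers x : Set G)) ⊓ ⁅A, zpowers x⁆ :=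
          ⟨⟨hA' ha, mem_centralizer_zpowers
            (mem_centralizer_iff.mp (hle (mem_zpowers x)) a ha).symm⟩, ha⟩
        rw [Coprime.inf_centralizer_inf_commutator hxA (coprime_card hrp h.one.qp h.one.hqr.symm
          (isPGroup_zpowers hrp hxo) (isPGroup_of_elem h.hA))] at h2
        exact ha1 (mem_bot.mp h2))
    exact ⟨w, hw, hw1, h.pair_centralizes (hLK hx) (hEK hf) hxo (orderOf_of_mem_elem hsp hE hf hf1)
      hfx.symm w hw, hgw⟩
  obtain ⟨w₁, hw₁, hw₁1, hf₁w₁, hf₂w₁⟩ := hw hf₁ hf₁1 hf₂ hf₂1 hx₁ hx₁1 hfx₁ hm₂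
  obtain ⟨w₂, hw₂, hw₂1, hf₂w₂, hf₁w₂⟩ := hw hf₂ hf₂1 hf₁ hf₁1 hx₂ hx₂1 hfx₂ hm₁
  have hA'₁ : ⁅A, zpowers x₁⁆ ≤ A :=
    Coprime.commutator_le_of_le_normalizer (zpowers_le.mpr (h.hKA (hLK hx₁)))
  have hA'₂ : ⁅A, zpowers x₂⁆ ≤ A :=
    Coprime.commutator_le_of_le_normalizer (zpowers_le.mpr (h.hKA (hLK hx₂)))
  have hindep : w₂ ∉ zpowers w₁ := by
    intro hm
    obtain ⟨i, hi⟩ := mem_zpowers_iff.mp hm
    -- a point of both commutators
    have hwA : w₂ ∈ ⁅A, zpowers x₁⁆ := hi ▸ zpow_mem hw₁ i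
    set w' := x₁ * w₂ * x₁⁻¹ with hw'
    have hw'₂ : w' ∈ ⁅A, zpowers x₂⁆ :=
      (mem_normalizer_iff.mp (mem_normalizer_commutator (h.hKA (hLK hx₁))
        (commute_mem_normalizer_zpowers (commute_of_mem_elem hL hx₁ hx₂))) w₂).mp hw₂
    have hf₂w' : Commute f₂ w' :=
      h.pair_centralizes (hLK hx₂) (hEK hf₂) hx₂o hf₂o hfx₂.symm w' hw'₂
    set z := f₂ * x₁ * f₂⁻¹ * x₁⁻¹ with hz
    have hzm : z ∈ zpowers x₁ := mul_mem ((mem_normalizer_iff.mp
      (hnormx hf₁ hf₁1 hf₂ hx₁ hx₁1 hfx₁) x₁).mp (mem_zpowers x₁)) (inv_mem (mem_zpowers x₁))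
    have hz1 : z ≠ 1 := fun h1 => hm₂ (mul_inv_eq_iff_eq_mul.mp (mul_inv_eq_one.mp h1))
    have hzc : z * w' * z⁻¹ = w' := by
      calc z * w' * z⁻¹ = f₂ * (x₁ * (f₂⁻¹ * w₂ * f₂) * x₁⁻¹) * f₂⁻¹ := by
            simp only [hz, hw']; group
        _ = w' := by
          rw [show f₂⁻¹ * w₂ * f₂ = w₂ by rw [mul_assoc, ← hf₂w₂.eq, inv_mul_cancel_left],
            ← hw', hf₂w'.eq, mul_inv_cancel_right]
    have hw'x : Commute x₁ w' := by
      by_contra hc
      exact hz1 (eq_one_of_moves hrp hx₁o (g := w') (fun h1 => hc h1.symm) hzm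
        (Commute.symm (mul_inv_eq_iff_eq_mul.mp hzc : Commute z w')))
    have hw'₁ : w' ∈ ⁅A, zpowers x₁⁆ :=
      (mem_normalizer_iff.mp (normalizer_commutator_ge_right A (zpowers x₁) (mem_zpowers x₁)) w₂).mp
        hwA
    have h2 : w' ∈ (A ⊓ centralizer (zpowers x₁ : Set G)) ⊓ ⁅A, zpowers x₁⁆ :=
      ⟨⟨hA'₁ hw'₁, mem_centralizer_zpowers hw'x⟩, hw'₁⟩
    rw [Coprime.inf_centralizer_inf_commutator (zpowers_le.mpr (h.hKA (hLK hx₁)))
      (coprime_card hrp h.one.qp h.one.hqr.symm (isPGroup_zpowers hrp hx₁o)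
        (isPGroup_of_elem h.hA)), mem_bot] at h2
    exact hw₂1 (conj_eq_one_iff.mp h2)
  set Z := A ⊓ centralizer ({f₁, f₂} : Set G)
  have hZmem : ∀ w ∈ A, Commute f₁ w → Commute f₂ w → w ∈ Z := fun w hw h1 h2 =>
    ⟨hw, mem_centralizer_iff.mpr (by rintro y (rfl | rfl); exacts [h1.eq, h2.eq])⟩
  have hZnu : ¬ Uniq q Z := fun hu => hindep (hu w₁ (hZmem w₁ (hA'₁ hw₁) hf₁w₁ hf₂w₁) w₂
    (hZmem w₂ (hA'₂ hw₂) hf₁w₂ hf₂w₂) (orderOf_of_mem_elem h.one.qp h.hA (hA'₁ hw₁) hw₁1)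
    (orderOf_of_mem_elem h.one.qp h.hA (hA'₂ hw₂) hw₂1)
    (commute_of_mem_elem h.hA (hA'₁ hw₁) (hA'₂ hw₂)))
  obtain ⟨Q, hQZ, hQ, hQnc⟩ := exists_elem_of_not_uniq h.one.qp hZnu
  haveI := hQ.1
  have hP1 : P ≠ ⊥ := h.one.ne_bot hf₁1
  obtain ⟨u, hu, hu1, v, hv, hv1, huv⟩ := exists_fix_noncyclic hQnc (h.one.le_normalizer Q)
    (coprime_card h.one.qp h.one.pp h.one.hpq.symm (isPGroup_of_elem hQ) h.one.hP) hP1
  have hus := h.one.fix_uniq h.one.hq h.one.hs h.one.hpq.symm h.one.hps.symm h.one.hqs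
    (orderOf_of_mem_elem h.one.qp hQ hu hu1) ⟨v, hv, hv1, huv⟩
    (H := E ⊓ centralizer (zpowers u : Set G))
    (fun y hy => mem_centralizer_iff.mp hy.2 u (mem_zpowers u))
  have hcu : ∀ y ∈ ({f₁, f₂} : Set G), Commute u y := fun y hy =>
    (mem_centralizer_iff.mp (hQZ hu).2 y hy).symm
  obtain ⟨i, hi⟩ := hus f₁ ⟨hf₁, mem_centralizer_zpowers (hcu f₁ (Or.inl rfl))⟩ f₂
    ⟨hf₂, mem_centralizer_zpowers (hcu f₂ (Or.inr rfl))⟩ hf₁o hf₂o (commute_of_mem_elem hE hf₁ hf₂)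
  exact hm₂ (hi ▸ hfx₁.zpow_left i)

theorem absurd_mod : False := by
  obtain ⟨E, hEK, hE, hnc⟩ := h.exists_E
  have hK : K ≠ ⊥ := by
    intro hb
    obtain rfl : E = ⊥ := le_bot_iff.mp (hb ▸ hEK)
    exact hnc inferInstance
  obtain ⟨L, hLK, hKL, hL1, l, hl, hd, hel⟩ := exists_normal_elem le_rfl le_normalizer hK
  have key : ∀ {r' s' : ℕ}, Mod σ p q r' s' P K A →
      Cfsg.IsElementaryAbelian r' L → False := fun {r' s'} k hr' => by
    rcases elem_cases k.one.rp hr' hL1 with hnc | ⟨e, he, heo, rfl⟩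
    · exact k.no_normal_elem hLK hKL hr' hnc
    · exact k.no_normal_prime (hLK he) heo hKL
  rcases h.prime_mem hl le_rfl hd with rfl | rfl
  · exact key h hel
  · exact key h.swap hel

end Mod

end Cfsg.Agent.Components.FourPrimes
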