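import Cfsg.Agent.Lib.Components.FourPrimes.TwoCores
import Cfsg.Agent.Lib.Components.FourPrimes.Module
import Cfsg.Agent.Lib.Components.FourPrimes.Central

/-! A solvable group in which four primes are pairwise joined in the spectrum has three of them
joined. -/

set_option autoImplicit false
set_option linter.all false

namespace Cfsg.Agent.Components.FourPrimes

open Subgroup

variable {G : Type*} [Group G] [Finite G] [Group.IsSolvable G] {σ : Finset ℕ}

/-- Three primes dividing the order of a solvable group: two of them have commuting elements. -/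
theorem exists_commuting_pair {a b c : ℕ} (ha : a.Prime) (hb : b.Prime) (hc : c.Prime) (hab : a ≠ b)
    (hbc : b ≠ c) (hac : a ≠ c) (hda : a ∣ Nat.card G) (hdb : b ∣ Nat.card G)
    (hdc : c ∣ Nat.card G) :
    ∃ i ∈ ({a, b, c} : Finset ℕ), ∃ j ∈ ({a, b, c} : Finset ℕ), i ≠ j ∧
      ∃ x y : G, orderOf x = i ∧ orderOf y = j ∧ Commute x y := by
  classical
  by_contra hcon
  push Not at hcon
  set S : Finset ℕ := {a, b, c} with hS
  have hdvd : ∀ l ∈ S, l.Prime ∧ l ∣ Nat.card G := by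
    intro l hl; simp [hS] at hl
    rcases hl with rfl | rfl | rfl
    exacts [⟨ha, hda⟩, ⟨hb, hdb⟩, ⟨hc, hdc⟩]
  obtain ⟨H, hH⟩ := Hall.exists_hall (S : Set ℕ) G
  have helem : ∀ {π : Set ℕ} {K : Subgroup G}, Cfsg.IsPiHall π K → ∀ l ∈ S, l ∈ π →
      ∃ x ∈ K, orderOf x = l := by
    intro π K hK l hl hlπ
    haveI := Fact.mk (hdvd l hl).1
    obtain ⟨x, hx⟩ := exists_prime_orderOf_dvd_card' (G := G) l (hdvd l hl).2
    obtain ⟨g, hg⟩ := exists_conj_le hK (hdvd l hl).1 hlπ (isPGroup_zpowers (hdvd l hl).1 hx)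
    exact ⟨_, hg x (mem_zpowers x), (orderOf_conj g x).trans hx⟩
  have hmemS : a ∈ S := by simp [hS]
  have hne : H ≠ ⊥ := fun hb' => by
    obtain ⟨x, hx, hxo⟩ := helem hH a hmemS (Finset.mem_coe.mpr hmemS)
    rw [hb', mem_bot] at hx
    rw [hx, orderOf_one] at hxo
    exact ha.ne_one hxo.symm
  obtain ⟨N, hNH, hHN, hN1, i, hi, hid, hNe⟩ := exists_normal_elem le_rfl le_normalizer hne
  have hiS : i ∈ S := Finset.mem_coe.mp (hH.1 i hi hid)
  obtain ⟨K, hKH, hK⟩ := exists_hall_le (τ := ((S.erase i : Finset ℕ) : Set ℕ))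
    (fun l hl => Finset.mem_coe.mpr (Finset.erase_subset i S (Finset.mem_coe.mp hl))) hH
  obtain ⟨j₀, hj₀⟩ : (S.erase i).Nonempty := by
    rw [← Finset.card_pos, Finset.card_erase_of_mem hiS, hS,
      Finset.card_eq_three.mpr ⟨a, b, c, hab, hac, hbc, rfl⟩]
    norm_num
  have hKne : K ≠ ⊥ := fun hb' => by
    obtain ⟨x, hx, hxo⟩ := helem hK j₀ (Finset.mem_of_mem_erase hj₀) (Finset.mem_coe.mpr hj₀)
    rw [hb', mem_bot] at hx
    rw [hx, orderOf_one] at hxo
    exact (hdvd j₀ (Finset.mem_of_mem_erase hj₀)).1.ne_one hxo.symm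
  obtain ⟨M, hMK, hKM, hM1, j, hj, hjd, hMe⟩ := exists_normal_elem le_rfl le_normalizer hKne
  have hjS' : j ∈ S.erase i := Finset.mem_coe.mp (hK.1 j hj hjd)
  have hjS := Finset.mem_of_mem_erase hjS'
  have hji : j ≠ i := Finset.ne_of_mem_erase hjS'
  have hfix : ∀ x ∈ K, ∀ l ∈ S, l ≠ i → orderOf x = l → ∀ n ∈ N, Commute x n → n = 1 := by
    intro x hx l hl hli hxo n hn hxn
    by_contra hn1
    exact hcon l hl i hiS hli x n hxo (orderOf_of_mem_elem hi hNe hn hn1) hxn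
  haveI := hMe.1
  rcases elem_cases hj hMe hM1 with hnc | ⟨e, he, heo, rfl⟩
  · obtain ⟨x, hx, hx1, n, hn, hn1, hxn⟩ := exists_fix_noncyclic hnc ((hMK.trans hKH).trans hHN)
      (coprime_card hj hi hji (isPGroup_of_elem hMe) (isPGroup_of_elem hNe)) hN1
    exact hn1 (hfix x (hMK hx) j hjS hji (orderOf_of_mem_elem hj hMe hx hx1) n hn hxn)
  obtain ⟨k, hk⟩ : ((S.erase i).erase j).Nonempty := by
    rw [← Finset.card_pos, Finset.card_erase_of_mem hjS', Finset.card_erase_of_mem hiS, hS,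
      Finset.card_eq_three.mpr ⟨a, b, c, hab, hac, hbc, rfl⟩]
    norm_num
  have hkj : k ≠ j := Finset.ne_of_mem_erase hk
  have hk' := Finset.mem_of_mem_erase hk
  have hkS := Finset.mem_of_mem_erase hk'
  have hki : k ≠ i := Finset.ne_of_mem_erase hk'
  obtain ⟨d, hd, hdo⟩ := helem hK k hkS (Finset.mem_coe.mpr hk')
  have hkp := (hdvd k hkS).1
  have hmv : ¬ Commute d e := fun hc' => hcon k hkS j hjS hkj d e hdo heo hc'
  obtain ⟨n₀, hn₀, hn₀1⟩ := (bot_or_exists_ne_one N).resolve_left hN1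
  obtain ⟨n, hn, hn1, hdn⟩ := exists_fixed hkp hi hki.symm hdo (isPGroup_of_elem hNe)
    (coprime_card hi hj hji.symm (isPGroup_of_elem hNe) (isPGroup_zpowers hj heo))
    (by rw [Nat.card_zpowers, heo]; exact (Nat.coprime_primes hj hkp).mpr hkj.symm) (hKM hd)
    (hHN (hKH hd)) ((hMK.trans hKH).trans hHN) (centralizer_zpowers_fixed hj heo hmv)
    (zpowers_not_le_centralizer hn₀ fun hc' => hn₀1 (hfix e (hMK he) j hjS hji heo n₀ hn₀ hc'))
  exact hn1 (hfix d hd k hkS hki hdo n hn hdn)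

theorem ctx_absurd (h : Ctx G σ) (hσ : σ.card = 4) : False := by
  classical
  obtain ⟨a, ha⟩ := Finset.card_pos.mp (show 0 < σ.card by omega)
  obtain ⟨E, hE, hEnc⟩ := h.rank a ha
  have htop : (⊤ : Subgroup G) ≠ ⊥ := fun he => hEnc (by
    obtain rfl : E = ⊥ := le_bot_iff.mp (he ▸ le_top)
    infer_instance)
  obtain ⟨p, hp, hpd, hpne⟩ := exists_coreIn_ne_bot htop
  rw [Subgroup.card_top] at hpd
  have hpσ := h.pi p hp hpd
  by_cases htwo : ∃ q ∈ σ, q ≠ p ∧ coreIn q (⊤ : Subgroup G) ≠ ⊥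
  · obtain ⟨q, hqσ, hqp, hqne⟩ := htwo
    obtain ⟨r, s, hrs, hrest⟩ := Finset.card_eq_two.mp
      (show ((σ.erase p).erase q).card = 2 by
        rw [Finset.card_erase_of_mem (Finset.mem_erase.mpr ⟨hqp, hqσ⟩),
          Finset.card_erase_of_mem hpσ, hσ])
    have hr' : r ∈ (σ.erase p).erase q := by rw [hrest]; simp
    have hs' : s ∈ (σ.erase p).erase q := by rw [hrest]; simp
    simp only [Finset.mem_erase] at hr' hs'
    obtain ⟨K, hK⟩ := Hall.exists_hall ({r, s} : Set ℕ) G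
    have hmin : ∀ {l : ℕ}, coreIn l (⊤ : Subgroup G) ≠ ⊥ → ∃ V : Subgroup G,
        V ≤ coreIn l ⊤ ∧ V ≠ ⊥ ∧ K ≤ normalizer (V : Set G) ∧
        ∀ W ≤ V, K ≤ normalizer (W : Set G) → W = ⊥ ∨ W = V := by
      intro l hl
      obtain ⟨V, hV, ⟨hKV, hV1⟩, hmin⟩ := exists_minimal_le_of_wellFoundedLT
        (fun W : Subgroup G => K ≤ normalizer (W : Set G) ∧ W ≠ ⊥) (coreIn l ⊤)
        ⟨fun g _ => le_normalizer_coreIn l ⊤ (mem_top g), hl⟩
      exact ⟨V, hV, hV1, hKV, fun W hW hKW =>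
        or_iff_not_imp_left.mpr fun hne => le_antisymm hW (hmin ⟨hKW, hne⟩ hW)⟩
    obtain ⟨V, hVle, hV1, hKV, hirrV⟩ := hmin hpne
    obtain ⟨A, hAle, hA1, hKA, hirrA⟩ := hmin hqne
    refine TwoMod.absurd_twoMod (σ := σ) (p := p) (q := q) (r := r) (s := s) (K := K) (V := V)
      (A := A) ⟨h, hpσ, hqσ, hr'.2.2, hs'.2.2, hqp.symm, hr'.2.1.symm, hs'.2.1.symm, hr'.1.symm,
        hs'.1.symm, hrs, hK, (coreIn_isPGroup p ⊤).to_le hVle, (coreIn_isPGroup q ⊤).to_le hAle,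
        hV1, hA1, hKV, hKA, hirrV, hirrA, fun v hv a ha => commute_of_coprime_normal
          (coprime_card hp (h.prime q hqσ) hqp.symm (coreIn_isPGroup p ⊤) (coreIn_isPGroup q ⊤))
          (fun g _ => le_normalizer_coreIn q ⊤ (mem_top g))
          (fun g _ => le_normalizer_coreIn p ⊤ (mem_top g)) (hVle hv) (hAle ha)⟩
  -- a single core
  set P := coreIn p (⊤ : Subgroup G)
  have hPn : P.Normal := ⟨fun n hn g =>
    (mem_normalizer_iff.mp (le_normalizer_coreIn p ⊤ (mem_top g)) n).mp hn⟩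
  have hself : centralizer (P : Set G) ≤ P := by
    have := inf_centralizer_coreIn_le (r := p) (K := (⊤ : Subgroup G)) fun l hl hd hlp =>
      by_contra fun hne => htwo ⟨l, h.pi l hl (by rwa [Subgroup.card_top] at hd), hlp, hne⟩
    rwa [top_inf_eq] at this
  obtain ⟨x, y, z, hxy, hxz, hyz, hrest⟩ := Finset.card_eq_three.mp
    (show (σ.erase p).card = 3 by rw [Finset.card_erase_of_mem hpσ, hσ])
  have hmem : ∀ l ∈ ({x, y, z} : Finset ℕ), l ∈ σ ∧ p ≠ l := fun l hl => by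
    rw [← hrest] at hl
    exact ⟨Finset.mem_of_mem_erase hl, (Finset.ne_of_mem_erase hl).symm⟩
  obtain ⟨hxσ, hpx⟩ := hmem x (by simp)
  obtain ⟨hyσ, hpy⟩ := hmem y (by simp)
  obtain ⟨hzσ, hpz⟩ := hmem z (by simp)
  have hone : OneCore σ p x y z P :=
    ⟨h, hpσ, hxσ, hyσ, hzσ, hpx, hpy, hpz, hxy, hxz, hyz, coreIn_isPGroup p ⊤, hPn, hself⟩
  obtain ⟨H, hH⟩ := Hall.exists_hall ({x, y, z} : Set ℕ) G
  obtain ⟨Ex, hExH, hEx, hExnc⟩ := h.exists_elem_le hH hxσ (by simp)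
  have hHne : H ≠ ⊥ := by
    intro hb
    obtain rfl : Ex = ⊥ := le_bot_iff.mp (hb ▸ hExH)
    exact hExnc inferInstance
  obtain ⟨L, hLH, hHL, hL1, l, hl, hd, hLe⟩ := exists_normal_elem le_rfl le_normalizer hHne
  have key : ∀ {q r s : ℕ}, OneCore σ p q r s P → Cfsg.IsPiHall ({q, r, s} : Set ℕ) H →
      Cfsg.IsElementaryAbelian r L → False := by
    intro q r s k hH' hr
    rcases elem_cases k.rp hr hL1 with hnc | ⟨e, he, heo, rfl⟩
    · obtain ⟨K, hKH, hK⟩ := exists_hall_le (τ := ({q, s} : Set ℕ))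
        (by intro u hu; simp at hu ⊢; tauto) hH'
      exact Mod.absurd_mod (p := p) (q := r) (r := q) (s := s) (P := P) (K := K) (A := L)
        ⟨k.swap_qr, hK, hr, hnc, hKH.trans hHL⟩
    · obtain ⟨K, hKH, hK⟩ := exists_hall_le (τ := ({q, s} : Set ℕ))
        (by intro u hu; simp at hu ⊢; tauto) hH'
      exact Central.absurd_central (y := e) ⟨k, hH', hK, hKH, hLH he, heo, hHL⟩
  rcases (show l = x ∨ l = y ∨ l = z by simpa using hH.1 l hl hd) with rfl | rfl | rfl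
  · exact key hone.swap_qr (by
      rwa [show ({y, l, z} : Set ℕ) = {l, y, z} by ext; simp; tauto]) hLe
  · exact key hone hH hLe
  · exact key hone.swap_rs (by
      rwa [show ({x, l, y} : Set ℕ) = {x, y, l} by ext; simp; tauto]) hLe

theorem four_absurd (hσ : σ.card = 4) (hprime : ∀ p ∈ σ, p.Prime)
    (hpi : ∀ p : ℕ, p.Prime → p ∣ Nat.card G → p ∈ σ)
    (hpair : ∀ a ∈ σ, ∀ b ∈ σ, a ≠ b → ∃ x y : G, orderOf x = a ∧ orderOf y = b ∧ Commute x y)
    (htriple : ∀ a ∈ σ, ∀ b ∈ σ, ∀ c ∈ σ, a ≠ b → b ≠ c → a ≠ c → ∀ x y z : G, orderOf x = a →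
      orderOf y = b → orderOf z = c → Commute x y → Commute y z → Commute x z → False) : False := by
  classical
  refine ctx_absurd ⟨hprime, hpi, htriple, hpair, fun a ha => ?_⟩ hσ
  by_contra hcon
  push Not at hcon
  haveI := Fact.mk (hprime a ha)
  obtain ⟨P⟩ : Nonempty (Sylow a G) := inferInstance
  have hPu : Uniq a (P : Subgroup G) := by
    by_contra hnu
    obtain ⟨E, -, hE, hnc⟩ := exists_elem_of_not_uniq (hprime a ha) hnu
    exact hnc (hcon E hE)
  have hconj : ∀ x : G, orderOf x = a → ∃ g : G, g * x * g⁻¹ ∈ (P : Subgroup G) := by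
    intro x hx
    obtain ⟨Q, hQ⟩ := (isPGroup_zpowers (hprime a ha) hx).exists_le_sylow
    obtain ⟨g, hg⟩ := MulAction.exists_smul_eq G Q P
    refine ⟨g, ?_⟩
    rw [← hg, Sylow.smul_def, Sylow.pointwise_smul_def]
    exact Subgroup.smul_mem_pointwise_smul _ (MulAut.conj g) _ (hQ (mem_zpowers x))
  obtain ⟨b₀, hb₀⟩ := Finset.card_pos.mp
    (show 0 < (σ.erase a).card by rw [Finset.card_erase_of_mem ha, hσ]; norm_num)
  obtain ⟨x₀, -, hx₀, -, -⟩ := hpair a ha b₀ (Finset.mem_of_mem_erase hb₀)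
    (Finset.ne_of_mem_erase hb₀).symm
  have hPne : (P : Subgroup G) ≠ ⊥ := fun hb => by
    obtain ⟨g, hg⟩ := hconj x₀ hx₀
    rw [hb, mem_bot, conj_eq_one_iff] at hg
    rw [hg, orderOf_one] at hx₀
    exact (hprime a ha).ne_one hx₀.symm
  obtain ⟨z, -, hzo, hall, -⟩ := uniq_prime (hprime a ha) P.isPGroup' hPne hPu
  have hC : ∀ b ∈ σ.erase a, b ∣ Nat.card (centralizer ({z} : Set G)) := by
    intro b hb
    obtain ⟨x, y, hx, hy, hxy⟩ := hpair a ha b (Finset.mem_of_mem_erase hb)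
      (Finset.ne_of_mem_erase hb).symm
    obtain ⟨g, hg⟩ := hconj x hx
    have hgx := hall _ hg ((orderOf_conj g x).trans hx)
    have hzg : z ∈ zpowers (g * x * g⁻¹) := by
      rw [eq_of_le_of_card_ge (zpowers_le.mpr hgx)
        (by rw [Nat.card_zpowers, Nat.card_zpowers, orderOf_conj, hx, hzo])]
      exact mem_zpowers z
    obtain ⟨i, hi⟩ := mem_zpowers_iff.mp hzg
    have hcomm : Commute (g * x * g⁻¹) (g * y * g⁻¹) := hxy.map (MulAut.conj g).toMonoidHom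
    have := Subgroup.orderOf_dvd_natCard (centralizer ({z} : Set G))
      (x := g * y * g⁻¹) (mem_centralizer_singleton_iff.mpr (hi ▸ (hcomm.zpow_left i).symm.eq))
    rwa [orderOf_conj, hy] at this
  obtain ⟨b, c, e, hbc, hbe, hce, hrest⟩ := Finset.card_eq_three.mp
    (show (σ.erase a).card = 3 by rw [Finset.card_erase_of_mem ha, hσ])
  have hmem : ∀ l ∈ ({b, c, e} : Finset ℕ), l ∈ σ ∧ a ≠ l ∧ l ∣ Nat.card (centralizer ({z} : Set G)) :=
    fun l hl => by
      rw [← hrest] at hl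
      exact ⟨Finset.mem_of_mem_erase hl, (Finset.ne_of_mem_erase hl).symm, hC l hl⟩
  obtain ⟨hbσ, -, hbd⟩ := hmem b (by simp)
  obtain ⟨hcσ, -, hcd⟩ := hmem c (by simp)
  obtain ⟨heσ, -, hed⟩ := hmem e (by simp)
  obtain ⟨i, hi, j, hj, hij, x, y, hx, hy, hxy⟩ := exists_commuting_pair (hprime b hbσ)
    (hprime c hcσ) (hprime e heσ) hbc hce hbe hbd hcd hed
  obtain ⟨hiσ, hai, -⟩ := hmem i hi
  obtain ⟨hjσ, haj, -⟩ := hmem j hj
  exact htriple a ha i hiσ j hjσ hai hij haj z x y hzo (by rw [orderOf_coe, hx])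
    (by rw [orderOf_coe, hy]) (mem_centralizer_singleton_iff.mp x.2).symm
    (congrArg Subtype.val hxy.eq) (mem_centralizer_singleton_iff.mp y.2).symm

end Cfsg.Agent.Components.FourPrimes
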