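import Cfsg.Agent.Lib.Components.FourPrimes.Basic

/-! A `p`-subgroup `P` normal in the group and containing its centralizer. -/

set_option autoImplicit false
set_option linter.all false

namespace Cfsg.Agent.Components.FourPrimes

open Subgroup

variable {G : Type*} [Group G] [Finite G] [Group.IsSolvable G] {σ : Finset ℕ} {p q r s a b : ℕ}
  {P : Subgroup G}

/-- The setting of a single core. -/
structure OneCore (σ : Finset ℕ) (p q r s : ℕ) (P : Subgroup G) : Prop where
  ctx : Ctx G σ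
  hp : p ∈ σ
  hq : q ∈ σ
  hr : r ∈ σ
  hs : s ∈ σ
  hpq : p ≠ q
  hpr : p ≠ r
  hps : p ≠ s
  hqr : q ≠ r
  hqs : q ≠ s
  hrs : r ≠ s
  hP : IsPGroup p P
  normal : P.Normal
  self : centralizer (P : Set G) ≤ P

/-- The element `x` has a nontrivial fixed point in `P`. -/
def Fix (P : Subgroup G) (x : G) : Prop := ∃ v ∈ P, v ≠ 1 ∧ Commute x v

namespace OneCore

variable (h : OneCore σ p q r s P)
include h

theorem swap_rs : OneCore σ p q s r P :=
  ⟨h.ctx, h.hp, h.hq, h.hs, h.hr, h.hpq, h.hps, h.hpr, h.hqs, h.hqr, h.hrs.symm, h.hP, h.normal,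
    h.self⟩

theorem swap_qr : OneCore σ p r q s P :=
  ⟨h.ctx, h.hp, h.hr, h.hq, h.hs, h.hpr, h.hpq, h.hps, h.hqr.symm, h.hrs, h.hqs, h.hP, h.normal,
    h.self⟩

theorem pp : p.Prime := h.ctx.prime p h.hp

theorem qp : q.Prime := h.ctx.prime q h.hq

theorem rp : r.Prime := h.ctx.prime r h.hr

theorem sp : s.Prime := h.ctx.prime s h.hs

theorem le_normalizer (K : Subgroup G) : K ≤ normalizer (P : Set G) :=
  haveI := h.normal
  Subgroup.le_normalizer_of_normal

theorem eq_bot_of_centralize {Y : Subgroup G} (hY : (Nat.card P).Coprime (Nat.card Y))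
    (hc : Y ≤ centralizer (P : Set G)) : Y = ⊥ :=
  card_eq_one.mp (Nat.eq_one_of_dvd_coprimes hY (card_dvd_of_le (hc.trans h.self)) dvd_rfl)

theorem not_le_centralizer (ha : a ∈ σ) (hap : a ≠ p) {Y : Subgroup G} (hY : IsPGroup a Y)
    (hY1 : Y ≠ ⊥) : ¬ Y ≤ centralizer (P : Set G) := fun hc =>
  hY1 (h.eq_bot_of_centralize (coprime_card h.pp (h.ctx.prime a ha) hap.symm h.hP hY) hc)

theorem ne_bot {x : G} (hx1 : x ≠ 1) : P ≠ ⊥ := fun hb => hx1 (by
  have hx := h.self (show x ∈ centralizer (P : Set G) from mem_centralizer_iff.mpr fun v hv => by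
    rw [hb, SetLike.mem_coe, mem_bot] at hv
    rw [hv, one_mul, mul_one])
  rwa [hb, mem_bot] at hx)

/-- An element acting without fixed points on a subgroup of another prime fixes a point of `P`. -/
theorem fix_of_fpf (ha : a ∈ σ) (hb : b ∈ σ) (hap : a ≠ p) (hbp : b ≠ p) (hab : a ≠ b) {f : G}
    (hf : orderOf f = a) {Y : Subgroup G} (hY : IsPGroup b Y) (hY1 : Y ≠ ⊥)
    (hfY : f ∈ normalizer (Y : Set G)) (hfpf : ∀ y ∈ Y, Commute f y → y = 1) : Fix P f :=
  exists_fixed (h.ctx.prime a ha) h.pp hap.symm hf h.hP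
    (coprime_card h.pp (h.ctx.prime b hb) hbp.symm h.hP hY)
    (coprime_card_prime (h.ctx.prime b hb) (h.ctx.prime a ha) hab.symm hY) hfY
    (h.le_normalizer (zpowers f) (mem_zpowers f)) (h.le_normalizer Y)
    (fun y hy hyf => by rw [hfpf y hy hyf]; exact one_mem _) (h.not_le_centralizer hb hbp hY hY1)

/-- An element with a fixed point commutes with no noncyclic elementary group of another prime. -/
theorem fix_uniq (ha : a ∈ σ) (hb : b ∈ σ) (hap : a ≠ p) (hbp : b ≠ p) (hab : a ≠ b) {x : G}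
    (hx : orderOf x = a) (hfix : Fix P x) {H : Subgroup G} (hxH : ∀ y ∈ H, Commute x y) :
    Uniq b H := by
  by_contra hnu
  obtain ⟨E, hEH, hE, hnc⟩ := exists_elem_of_not_uniq (h.ctx.prime b hb) hnu
  obtain ⟨v, hv, hv1, hxv⟩ := hfix
  refine h.ctx.triple_group ha hb h.hp hab hbp hap hx hE hnc (fun y hy => hxH y (hEH hy))
    (h.hP.to_le (inf_le_left : P ⊓ centralizer (zpowers x : Set G) ≤ P)) ?_ ?_ ?_
  · exact fun hbot => hv1 ((eq_bot_iff_forall _).mp hbot v ⟨hv, mem_centralizer_zpowers hxv⟩)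
  · exact fun y hy => mem_normalizer_inf_centralizer (h.le_normalizer E hy)
      (commute_mem_normalizer_zpowers (hxH y (hEH hy)).symm)
  · exact fun w hw => mem_centralizer_iff.mp hw.2 x (mem_zpowers x)

theorem not_fix_pair (ha : a ∈ σ) (hb : b ∈ σ) (hap : a ≠ p) (hbp : b ≠ p) (hab : a ≠ b) {x y v : G}
    (hx : orderOf x = a) (hy : orderOf y = b) (hxy : Commute x y) (hv : v ∈ P)
    (hxv : Commute x v) (hyv : Commute y v) : v = 1 :=
  h.ctx.no_common ha hb h.hp hab hbp hap hx hy h.hP hv hxy hxv hyv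

/-- On the fixed points of `x`, an element moving a subgroup `⟨e⟩` that acts without fixed points
fixes a point. -/
theorem fix_relative (ha : a ∈ σ) (hb : b ∈ σ) (hap : a ≠ p) (hbp : b ≠ p) (hab : a ≠ b)
    {e f x : G} (he : orderOf e = b) (hf : orderOf f = a) (hfe : f ∈ normalizer (zpowers e : Set G))
    (hmv : ¬ Commute f e) (hxe : Commute x e) (hxf : Commute x f) (hfix : Fix P x)
    (hefix : ∀ v ∈ P, Commute x v → Commute e v → v = 1) :
    ∃ v ∈ P, v ≠ 1 ∧ Commute x v ∧ Commute f v := by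
  obtain ⟨v, hv, hv1, hxv⟩ := hfix
  set W := P ⊓ centralizer (zpowers x : Set G)
  have hW : IsPGroup p W := h.hP.to_le inf_le_left
  obtain ⟨w, hw, hw1, hfw⟩ := exists_fixed (h.ctx.prime a ha) h.pp hap.symm hf hW
    (coprime_card h.pp (h.ctx.prime b hb) hbp.symm hW (isPGroup_zpowers (h.ctx.prime b hb) he))
    (by rw [Nat.card_zpowers, he]
        exact (Nat.coprime_primes (h.ctx.prime b hb) (h.ctx.prime a ha)).mpr hab.symm) hfe
    (mem_normalizer_inf_centralizer (h.le_normalizer (zpowers f) (mem_zpowers f))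
      (commute_mem_normalizer_zpowers hxf.symm))
    (zpowers_le.mpr (mem_normalizer_inf_centralizer (h.le_normalizer (zpowers e) (mem_zpowers e))
      (commute_mem_normalizer_zpowers hxe.symm)))
    (centralizer_zpowers_fixed (h.ctx.prime b hb) he hmv)
    (zpowers_not_le_centralizer (v := v) ⟨hv, mem_centralizer_zpowers hxv⟩
      fun hev => hv1 (hefix v hv hxv hev))
  exact ⟨w, hw.1, hw1, mem_centralizer_iff.mp hw.2 x (mem_zpowers x), hfw⟩

end OneCore

end Cfsg.Agent.Components.FourPrimes
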