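import Cfsg.Agent.Lib.Components.FourPrimes.Basic
import Cfsg.Agent.Lib.Coprime.OmegaDetect

/-! Two modules for coprime primes `p`, `q` that commute, acted on by a Hall `{r, s}`-subgroup `K`,
no element of prime order of which has fixed points on both. -/

set_option autoImplicit false
set_option linter.all false

namespace Cfsg.Agent.Components.FourPrimes

open Subgroup
open scoped commutatorElement

variable {G : Type*} [Group G] [Finite G] [Group.IsSolvable G] {σ : Finset ℕ} {p q r s : ℕ} {K V A : Subgroup G}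

/-- The setting of two commuting irreducible modules. -/
structure TwoMod (σ : Finset ℕ) (p q r s : ℕ) (K V A : Subgroup G) : Prop where
  ctx : Ctx G σ
  hp : p ∈ σ
  hq : q ∈ σ
  hr : r ∈ σ
  hs : s ∈ σ
  hpq : p ≠ q
  hpr : p ≠ r
  hps : p ≠ s
  hqr : q ≠ r
  hqs : q ≠ s
  hrs : r ≠ s
  hall : Cfsg.IsPiHall ({r, s} : Set ℕ) K
  hV : IsPGroup p V
  hA : IsPGroup q A
  hV1 : V ≠ ⊥
  hA1 : A ≠ ⊥
  hKV : K ≤ normalizer (V : Set G)
  hKA : K ≤ normalizer (A : Set G)
  irrV : ∀ W ≤ V, K ≤ normalizer (W : Set G) → W = ⊥ ∨ W = V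
  irrA : ∀ W ≤ A, K ≤ normalizer (W : Set G) → W = ⊥ ∨ W = A
  comm : ∀ v ∈ V, ∀ a ∈ A, Commute v a

namespace TwoMod

variable (h : TwoMod σ p q r s K V A)
include h

theorem flip : TwoMod σ q p r s K A V where
  ctx := h.ctx
  hp := h.hq
  hq := h.hp
  hr := h.hr
  hs := h.hs
  hpq := h.hpq.symm
  hpr := h.hqr
  hps := h.hqs
  hqr := h.hpr
  hqs := h.hps
  hrs := h.hrs
  hall := h.hall
  hV := h.hA
  hA := h.hV
  hV1 := h.hA1
  hA1 := h.hV1
  hKV := h.hKA
  hKA := h.hKV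
  irrV := h.irrA
  irrA := h.irrV
  comm := fun v hv a ha => (h.comm a ha v hv).symm

theorem swap : TwoMod σ p q s r K V A :=
  { h with
    hr := h.hs
    hs := h.hr
    hpr := h.hps
    hps := h.hpr
    hqr := h.hqs
    hqs := h.hqr
    hrs := h.hrs.symm
    hall := Set.pair_comm r s ▸ h.hall }

theorem rp : r.Prime := h.ctx.prime r h.hr

theorem sp : s.Prime := h.ctx.prime s h.hs

theorem no_both {l : ℕ} (hl : l ∈ σ) (hlp : l ≠ p) (hlq : l ≠ q) {x : G} (hx : orderOf x = l)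
    {v a : G} (hv : v ∈ V) (hv1 : v ≠ 1) (hxv : Commute x v) (ha : a ∈ A) (hxa : Commute x a) :
    a = 1 := by
  obtain ⟨n, hn, hnV⟩ := exists_pow_orderOf (h.ctx.prime p h.hp) h.hV hv hv1
  exact h.ctx.no_common hl h.hp h.hq hlp h.hpq hlq hx hn h.hA ha (hxv.pow_right n) hxa
    (h.comm _ hnV a ha)

theorem exists_E : ∃ E ≤ K, Cfsg.IsElementaryAbelian s E ∧ ¬ IsCyclic E :=
  h.ctx.exists_elem_le h.hall h.hs (by simp)

theorem exists_fix_V {l : ℕ} (hl : l.Prime) (hlp : l ≠ p) {E : Subgroup G} (hEK : E ≤ K)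
    (hE : Cfsg.IsElementaryAbelian l E) (hnc : ¬ IsCyclic E) :
    ∃ x ∈ E, x ≠ 1 ∧ orderOf x = l ∧ ∃ v ∈ V, v ≠ 1 ∧ Commute x v := by
  haveI := hE.1
  obtain ⟨x, hx, hx1, v, hv, hv1, hxv⟩ := exists_fix_noncyclic hnc (hEK.trans h.hKV)
    (coprime_card hl (h.ctx.prime p h.hp) hlp (isPGroup_of_elem hE) h.hV) h.hV1
  exact ⟨x, hx, hx1, orderOf_of_mem_elem hl hE hx hx1, v, hv, hv1, hxv⟩

theorem exists_fixed_of_moves {e f : G} (he : e ∈ K) (heo : orderOf e = r) (hf : f ∈ K)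
    (hfo : orderOf f = s) (hKe : K ≤ normalizer (zpowers e : Set G)) (hmv : ¬ Commute f e)
    {a : G} (ha : a ∈ A) (hea : ¬ Commute e a) : ∃ b ∈ A, b ≠ 1 ∧ Commute f b :=
  exists_fixed h.sp (h.ctx.prime q h.hq) h.hqs hfo h.hA
    (coprime_card (h.ctx.prime q h.hq) h.rp h.hqr h.hA (isPGroup_zpowers h.rp heo))
    (by rw [Nat.card_zpowers, heo]; exact (Nat.coprime_primes h.rp h.sp).mpr h.hrs)
    (hKe hf) (h.hKA hf) ((zpowers_le.mpr he).trans h.hKA)
    (centralizer_zpowers_fixed h.rp heo hmv) (zpowers_not_le_centralizer ha hea)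

/-- A normal subgroup of order `r` of `K` acts without fixed points. -/
theorem normal_fpf {e : G} (he : e ∈ K) (heo : orderOf e = r)
    (hKe : K ≤ normalizer (zpowers e : Set G)) {v : G} (hv : v ∈ V) (hev : Commute e v) : v = 1 := by
  by_contra hv1
  have hall : ∀ w ∈ V, Commute e w := by
    set W := V ⊓ centralizer (zpowers e : Set G)
    have hKW : K ≤ normalizer (W : Set G) := fun g hg =>
      mem_normalizer_inf_centralizer (h.hKV hg) (hKe hg)
    rcases h.irrV W inf_le_left hKW with hW | hW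
    · exact absurd ((eq_bot_iff_forall W).mp hW v ⟨hv, mem_centralizer_zpowers hev⟩) hv1
    · intro w hw
      exact mem_centralizer_iff.mp (hW.ge hw).2 e (mem_zpowers e)
  obtain ⟨a, ha, ha1⟩ := (bot_or_exists_ne_one A).resolve_left h.hA1
  have hea : ¬ Commute e a := fun hc =>
    ha1 (h.no_both h.hr h.hpr.symm h.hqr.symm heo hv hv1 hev ha hc)
  obtain ⟨E, hEK, hE, hnc⟩ := h.exists_E
  obtain ⟨f, hf, hf1, hfo, w, hw, hw1, hfw⟩ := h.exists_fix_V h.sp h.hps.symm hEK hE hnc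
  by_cases hfe : Commute f e
  · exact hw1 (h.ctx.no_common h.hs h.hr h.hp h.hrs.symm h.hpr.symm h.hps.symm hfo heo h.hV hw
      hfe hfw (hall w hw))
  · obtain ⟨b, hb, hb1, hfb⟩ := h.exists_fixed_of_moves he heo (hEK hf) hfo hKe hfe ha hea
    exact hb1 (h.no_both h.hs h.hps.symm h.hqs.symm hfo hw hw1 hfw hb hfb)

/-- It is centralized by the elements of order `s`. -/
theorem normal_central {e : G} (he : e ∈ K) (heo : orderOf e = r)
    (hKe : K ≤ normalizer (zpowers e : Set G)) {f : G} (hf : f ∈ K) (hfo : orderOf f = s) :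
    Commute f e := by
  by_contra hfe
  obtain ⟨a, ha, ha1⟩ := (bot_or_exists_ne_one A).resolve_left h.hA1
  obtain ⟨v, hv, hv1⟩ := (bot_or_exists_ne_one V).resolve_left h.hV1
  obtain ⟨b, hb, hb1, hfb⟩ := h.exists_fixed_of_moves he heo hf hfo hKe hfe ha
    (fun hc => ha1 (h.flip.normal_fpf he heo hKe ha hc))
  obtain ⟨w, hw, hw1, hfw⟩ := h.flip.exists_fixed_of_moves he heo hf hfo hKe hfe hv
    (fun hc => hv1 (h.normal_fpf he heo hKe hv hc))
  exact hb1 (h.no_both h.hs h.hps.symm h.hqs.symm hfo hw hw1 hfw hb hfb)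

theorem prime_mem {l : ℕ} (hl : l.Prime) {N : Subgroup G} (hN : N ≤ K) (hd : l ∣ Nat.card N) :
    l = r ∨ l = s := by
  simpa using h.hall.1 l hl (hd.trans (card_dvd_of_le hN))

/-- The action on `V` is faithful. -/
theorem faithful : K ⊓ centralizer (V : Set G) = ⊥ := by
  by_contra hne
  obtain ⟨L, hL, hKL, hL1, l, hl, hd, hel⟩ := exists_normal_elem inf_le_left
    (fun g hg => mem_normalizer_inf_centralizer (le_normalizer hg) (h.hKV hg)) hne
  have hLK : L ≤ K := hL.trans inf_le_left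
  obtain ⟨v, hv, hv1⟩ := (bot_or_exists_ne_one V).resolve_left h.hV1
  have hc : ∀ x ∈ L, Commute x v := fun x hx =>
    (mem_centralizer_iff.mp (hL hx).2 v hv).symm
  have key : ∀ {r' s' : ℕ}, TwoMod σ p q r' s' K V A →
      Cfsg.IsElementaryAbelian r' L → False := fun {r' s'} k hr' => by
    rcases elem_cases k.rp hr' hL1 with hnc | ⟨e, he, heo, rfl⟩
    · obtain ⟨x, hx, hx1, hxo, a, ha, ha1, hxa⟩ :=
        k.flip.exists_fix_V k.rp k.hqr.symm hLK hr' hnc
      exact ha1 (k.no_both k.hr k.hpr.symm k.hqr.symm hxo hv hv1 (hc x hx) ha hxa)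
    · exact hv1 (k.normal_fpf (hLK he) heo hKL hv (hc e he))
  rcases h.prime_mem hl inf_le_left hd with rfl | rfl
  · exact key h hel
  · exact key h.swap hel

/-- There is no noncyclic normal elementary `r`-subgroup in `K`. -/
theorem no_normal_elem {L : Subgroup G} (hLK : L ≤ K) (hKL : K ≤ normalizer (L : Set G))
    (hL : Cfsg.IsElementaryAbelian r L) (hLnc : ¬ IsCyclic L) : False := by
  haveI := hL.1
  obtain ⟨E, hEK, hE, hnc⟩ := h.exists_E
  have hEL : ∀ f ∈ E, f ≠ 1 → ∀ x ∈ L, Commute f x := by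
    intro f hf hf1
    have hfo := orderOf_of_mem_elem h.sp hE hf hf1
    have hfL : zpowers f ≤ normalizer (L : Set G) := zpowers_le.mpr (hKL (hEK hf))
    have hcop : (Nat.card (zpowers f)).Coprime (Nat.card L) :=
      coprime_card h.sp h.rp h.hrs.symm (isPGroup_zpowers h.sp hfo) (isPGroup_of_elem hL)
    set Y := ⁅L, zpowers f⁆ with hY
    have hYL : Y ≤ L := Coprime.commutator_le_of_le_normalizer hfL
    by_cases hY1 : Y = ⊥
    · intro x hx
      exact (mem_centralizer_iff.mp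
        (Coprime.commutator_eq_bot_iff_le_centralizer'.mp hY1 (mem_zpowers f)) x hx).symm
    exfalso
    obtain ⟨y, hy, hy1⟩ := (bot_or_exists_ne_one Y).resolve_left hY1
    have hfY : f ∈ normalizer (Y : Set G) :=
      normalizer_commutator_ge_right L (zpowers f) |> fun h' => h' (mem_zpowers f)
    have hfpf : ∀ z ∈ Y, Commute f z → z = 1 := fun z hz hfz => by
      have h2 : z ∈ (L ⊓ centralizer (zpowers f : Set G)) ⊓ ⁅L, zpowers f⁆ :=
        ⟨⟨hYL hz, mem_centralizer_zpowers hfz⟩, hz⟩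
      rw [Coprime.inf_centralizer_inf_commutator hfL hcop] at h2
      exact mem_bot.mp h2
    have main : ∀ {p' : ℕ} {W : Subgroup G}, p' ∈ σ → p' ≠ r → p' ≠ s → IsPGroup p' W →
        K ≤ normalizer (W : Set G) → K ⊓ centralizer (W : Set G) = ⊥ →
        ∃ w ∈ W, w ≠ 1 ∧ Commute f w := fun {p' W} hp' hp'r hp's hW hKW hfa =>
      exists_fixed h.sp (h.ctx.prime p' hp') hp's hfo hW
        (coprime_card (h.ctx.prime p' hp') h.rp hp'r hW ((isPGroup_of_elem hL).to_le hYL))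
        (coprime_card_prime h.rp h.sp h.hrs ((isPGroup_of_elem hL).to_le hYL))
        hfY (hKW (hEK hf)) ((hYL.trans hLK).trans hKW)
        (fun z hz hfz => by rw [hfpf z hz hfz]; exact one_mem _)
        (fun hle => hy1 (mem_bot.mp (hfa ▸ ⟨hLK (hYL hy), hle hy⟩)))
    obtain ⟨v, hv, hv1, hfv⟩ := main h.hp h.hpr h.hps h.hV h.hKV h.faithful
    obtain ⟨a, ha, ha1, hfa⟩ := main h.hq h.hqr h.hqs h.hA h.hKA h.flip.faithful
    exact ha1 (h.no_both h.hs h.hps.symm h.hqs.symm hfo hv hv1 hfv ha hfa)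
  obtain ⟨x, hx, hx1, hxo, v, hv, hv1, hxv⟩ := h.exists_fix_V h.rp h.hpr.symm hLK hL hLnc
  have hEx : ∀ f ∈ E, Commute x f := fun f hf => by
    by_cases hf1 : f = 1
    · rw [hf1]; exact Commute.one_right x
    · exact (hEL f hf hf1 x hx).symm
  refine h.ctx.triple_group h.hr h.hs h.hp h.hrs h.hps.symm h.hpr.symm hxo hE hnc hEx
    (h.hV.to_le (inf_le_left : V ⊓ centralizer (zpowers x : Set G) ≤ V)) ?_ ?_ ?_
  · exact fun hb => hv1 ((eq_bot_iff_forall _).mp hb v ⟨hv, mem_centralizer_zpowers hxv⟩)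
  · exact fun f hf => mem_normalizer_inf_centralizer (h.hKV (hEK hf))
      (commute_mem_normalizer_zpowers (hEx f hf).symm)
  · exact fun w hw => mem_centralizer_iff.mp hw.2 x (mem_zpowers x)

/-- Elements of order `r` outside a normal `⟨e⟩` are not moved by multiples of `e`. -/
theorem not_shifted {e x g z : G} (he : e ∈ K) (heo : orderOf e = r)
    (hKe : K ≤ normalizer (zpowers e : Set G)) (hx : x ∈ K) (hxo : orderOf x = r)
    (hxe : Commute x e) (hxn : x ∉ zpowers e) (hg : g ∈ K) (hge : Commute g e)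
    (hz : z ∈ zpowers e) (hz1 : z ≠ 1) (hconj : g * x * g⁻¹ = x * z) : False := by
  haveI := Fact.mk h.rp
  have hnu : ¬ Uniq r (zpowers x ⊔ zpowers e) := fun hu => hxn (hu e
    (mem_sup_right (mem_zpowers e)) x (mem_sup_left (mem_zpowers x)) heo hxo hxe.symm)
  obtain ⟨E, hEle, hE, hnc⟩ := exists_elem_of_not_uniq h.rp hnu
  have hEK : E ≤ K := hEle.trans (sup_le (zpowers_le.mpr hx) (zpowers_le.mpr he))
  have hzo : orderOf z = r := by
    obtain ⟨k, hk⟩ := mem_zpowers_iff.mp hz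
    refine orderOf_eq_prime ?_ hz1
    rw [← hk, ← zpow_natCast (e ^ k), ← zpow_mul, mul_comm, zpow_mul, zpow_natCast, ← heo,
      pow_orderOf_eq_one, one_zpow]
  have hzgen : zpowers z = zpowers e := eq_of_le_of_card_ge (zpowers_le.mpr hz)
    (by rw [Nat.card_zpowers, Nat.card_zpowers, hzo, heo])
  have hzc : Commute g z ∧ Commute x z := by
    obtain ⟨k, hk⟩ := mem_zpowers_iff.mp hz
    exact hk ▸ ⟨hge.zpow_right k, hxe.zpow_right k⟩
  have main : ∀ {p' : ℕ} {W : Subgroup G}, p' ∈ σ → p' ≠ r → IsPGroup p' W → W ≠ ⊥ →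
      K ≤ normalizer (W : Set G) → (∀ w ∈ W, Commute e w → w = 1) →
      ∃ w ∈ W, w ≠ 1 ∧ Commute x w := by
    intro p' W hp' hp'r hW hW1 hKW hfpf
    haveI := hE.1
    obtain ⟨y, hy, hy1, w, hw, hw1, hyw⟩ := exists_fix_noncyclic hnc (hEK.trans hKW)
      (coprime_card h.rp (h.ctx.prime p' hp') hp'r.symm (isPGroup_of_elem hE) hW) hW1
    obtain ⟨_, ⟨i, rfl⟩, _, hu, hyeq⟩ := (Coprime.mem_sup_of_le_normalizer
      (N := zpowers x) (H := zpowers e) (zpowers_le.mpr
        (mem_normalizer_of_commute (by rintro _ ⟨j, rfl⟩; exact hxe.symm.zpow_right j)))).mp (hEle hy)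
    rw [← hzgen] at hu
    obtain ⟨k, rfl⟩ := hu
    simp only at hyeq
    have hxr : x ^ (r : ℤ) = 1 := by rw [zpow_natCast, ← hxo, pow_orderOf_eq_one]
    have hzr : z ^ (r : ℤ) = 1 := by rw [zpow_natCast, ← hzo, pow_orderOf_eq_one]
    by_cases hi : (i : ZMod r) = 0
    · rw [ZMod.intCast_zmod_eq_zero_iff_dvd] at hi
      obtain ⟨i', rfl⟩ := hi
      rw [zpow_mul, hxr, one_zpow, one_mul] at hyeq
      have hye : y ∈ zpowers e := hzgen ▸ ⟨k, hyeq⟩
      by_contra hne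
      refine hy1 (eq_one_of_moves h.rp heo (g := w) (fun hwe => hw1 (hfpf w hw hwe.symm)) hye hyw.symm)
    obtain ⟨m, hm⟩ : ∃ m : ℤ, (r : ℤ) ∣ m * i + k := by
      refine ⟨((-(k : ZMod r)) / (i : ZMod r)).val, ?_⟩
      rw [← ZMod.intCast_zmod_eq_zero_iff_dvd]
      push_cast
      rw [ZMod.natCast_zmod_val, div_mul_cancel₀ _ hi, neg_add_cancel]
    have hgx : ∀ n : ℕ, g ^ n * x * (g ^ n)⁻¹ = x * z ^ n := by
      intro n
      induction n with
      | zero => simp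
      | succ n ih =>
        calc g ^ (n + 1) * x * (g ^ (n + 1))⁻¹ = g * (g ^ n * x * (g ^ n)⁻¹) * g⁻¹ := by
              rw [pow_succ']; group
          _ = (g * x * g⁻¹) * (g * z ^ n * g⁻¹) := by rw [ih]; group
          _ = x * z ^ (n + 1) := by
            rw [hconj, (hzc.1.pow_right n).eq, mul_inv_cancel_right, mul_assoc, pow_succ']
    obtain ⟨n, hn⟩ : ∃ n : ℕ, (r : ℤ) ∣ (n : ℤ) * i + k := by
      refine ⟨(m % r).toNat, ?_⟩
      rw [Int.toNat_of_nonneg (Int.emod_nonneg _ (by exact_mod_cast h.rp.ne_zero))]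
      obtain ⟨c, hc⟩ := hm
      refine ⟨c - m / r * i, ?_⟩
      rw [Int.emod_def]
      linear_combination hc
    obtain ⟨c, hc⟩ := hn
    have hxi : g ^ n * y * (g ^ n)⁻¹ = x ^ i := by
      calc g ^ n * y * (g ^ n)⁻¹
          = (g ^ n * x ^ i * (g ^ n)⁻¹) * (g ^ n * z ^ k * (g ^ n)⁻¹) := by rw [← hyeq]; group
        _ = (x * z ^ n) ^ i * z ^ k := by
          rw [← conj_zpow, hgx, ((hzc.1.pow_left n).zpow_right k).eq, mul_inv_cancel_right]
        _ = x ^ i := by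
          rw [(hzc.2.pow_right n).mul_zpow, mul_assoc, ← zpow_natCast z n, ← zpow_mul, ← zpow_add,
            hc, zpow_mul, hzr, one_zpow, mul_one]
    refine ⟨g ^ n * w * (g ^ n)⁻¹, (mem_normalizer_iff.mp (hKW (pow_mem hg n)) w).mp hw,
      fun h1 => hw1 (conj_eq_one_iff.mp h1), ?_⟩
    have hcw : Commute (x ^ i) (g ^ n * w * (g ^ n)⁻¹) := hxi ▸ hyw.map (MulAut.conj (g ^ n)).toMonoidHom
    obtain ⟨j, hj⟩ : ∃ j : ℤ, (r : ℤ) ∣ i * j - 1 := by
      refine ⟨((i : ZMod r)⁻¹).val, ?_⟩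
      rw [← ZMod.intCast_zmod_eq_zero_iff_dvd]
      push_cast
      rw [ZMod.natCast_zmod_val, mul_inv_cancel₀ hi, sub_self]
    have hxx : (x ^ i) ^ j = x := by
      obtain ⟨d, hd⟩ := hj
      rw [← zpow_mul, show i * j = (r : ℤ) * d + 1 by linarith, zpow_add, zpow_mul, hxr, one_zpow,
        one_mul, zpow_one]
    exact hxx ▸ hcw.zpow_left j
  obtain ⟨v, hv, hv1, hxv⟩ := main h.hp h.hpr h.hV h.hV1 h.hKV (fun w hw hew => h.normal_fpf he heo hKe hw hew)
  obtain ⟨a, ha, ha1, hxa⟩ := main h.hq h.hqr h.hA h.hA1 h.hKA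
    (fun w hw hew => h.flip.normal_fpf he heo hKe hw hew)
  exact ha1 (h.no_both h.hr h.hpr.symm h.hqr.symm hxo hv hv1 hxv ha hxa)

/-- An `r`-group of rank two containing `e` has a central element of order `r` outside `⟨e⟩`. -/
theorem exists_central {e : G} (he : e ∈ K) (heo : orderOf e = r)
    (hKe : K ≤ normalizer (zpowers e : Set G)) {R : Subgroup G} (hRK : R ≤ K) (hR : IsPGroup r R)
    (heR : e ∈ R) (hnu : ¬ Uniq r R) :
    ∃ x ∈ R, orderOf x = r ∧ x ∉ zpowers e ∧ ∀ y ∈ R, Commute y x := by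
  classical
  haveI := Fact.mk h.rp
  have hRe : ∀ g ∈ R, Commute g e := fun g hg =>
    commute_of_same_prime h.rp heo (hKe (hRK hg)) hR hg
  set S := {x : G // x ∈ R ∧ orderOf x = r ∧ x ∉ zpowers e}
  have : Nonempty S := by
    by_contra hS
    refine hnu fun x hx y hy hox hoy _ => ?_
    have hx' : x ∈ zpowers e := by_contra fun hn => hS ⟨⟨x, hx, hox, hn⟩⟩
    have hy' : y ∈ zpowers e := by_contra fun hn => hS ⟨⟨y, hy, hoy, hn⟩⟩
    rwa [eq_of_le_of_card_ge (zpowers_le.mpr hx') (by rw [Nat.card_zpowers, Nat.card_zpowers, hox, heo])]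
  obtain ⟨⟨x, hx, hxo, hxn⟩, hmax⟩ := Finite.exists_max
    (fun x : S => Nat.card ↥(R ⊓ centralizer ({x.1} : Set G)))
  refine ⟨x, hx, hxo, hxn, ?_⟩
  set C := R ⊓ centralizer ({x} : Set G) with hC
  by_contra hall
  have hlt : C.subgroupOf R < ⊤ := by
    rw [lt_top_iff_ne_top, Ne, subgroupOf_eq_top]
    exact fun hle => hall fun y hy => mem_centralizer_singleton_iff.mp (hle hy).2
  haveI := hR.isNilpotent
  obtain ⟨g, hgN, hgC⟩ := SetLike.exists_of_lt (Group.normalizerCondition_of_isNilpotent _ hlt)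
  have hgC' : (g : G) ∉ C := fun hm => hgC hm
  have hgN' : (g : G) ∈ normalizer (C : Set G) := by
    refine mem_normalizer_fintype fun c hc => ?_
    exact (mem_normalizer_iff.mp hgN ⟨c, (hc : c ∈ C).1⟩).mp hc
  let W : Subgroup G :=
    { carrier := {w | w ∈ C ∧ w ^ r = 1 ∧ ∀ c ∈ C, Commute c w}
      one_mem' := ⟨one_mem _, one_pow r, fun c _ => Commute.one_right c⟩
      mul_mem' := fun {a b} ha hb => ⟨mul_mem ha.1 hb.1,
        by rw [(hb.2.2 a ha.1).mul_pow, ha.2.1, hb.2.1, one_mul],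
        fun c hc => (ha.2.2 c hc).mul_right (hb.2.2 c hc)⟩
      inv_mem' := fun {a} ha => ⟨inv_mem ha.1, by rw [inv_pow, ha.2.1, inv_one],
        fun c hc => (ha.2.2 c hc).inv_right⟩ }
  have hxC : x ∈ C := ⟨hx, mem_centralizer_singleton_iff.mpr rfl⟩
  have hxW : x ∈ W := ⟨hxC, hxo ▸ pow_orderOf_eq_one x,
    fun c hc => mem_centralizer_singleton_iff.mp hc.2⟩
  have heW : e ∈ W := ⟨⟨heR, mem_centralizer_singleton_iff.mpr (hRe x hx).symm.eq⟩,
    heo ▸ pow_orderOf_eq_one e, fun c hc => hRe c hc.1⟩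
  have hgW : (g : G) ∈ normalizer (W : Set G) := by
    refine mem_normalizer_fintype fun w hw => ⟨(mem_normalizer_iff.mp hgN' w).mp hw.1, ?_, ?_⟩
    · rw [conj_pow, hw.2.1, mul_one, mul_inv_cancel]
    · intro c hc
      have h1 := (hw.2.2 _ ((mem_normalizer_iff''.mp hgN' c).mp hc)).map
        (MulAut.conj (g : G)).toMonoidHom
      simpa [mul_assoc] using h1
  -- what commutes with `g` lies in `⟨e⟩`
  have hM : ∀ w ∈ W, Commute (g : G) w → w ∈ zpowers e := by
    intro w hw hgw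
    by_contra hwn
    have hwo : orderOf w = r := orderOf_eq_prime hw.2.1 fun h1 => hwn (h1 ▸ one_mem _)
    have hle : C ≤ R ⊓ centralizer ({w} : Set G) := fun c hc =>
      ⟨hc.1, mem_centralizer_singleton_iff.mpr (hw.2.2 c hc).eq⟩
    have hge := hmax ⟨w, hw.1.1, hwo, hwn⟩
    exact hgC' ((eq_of_le_of_card_ge hle hge).ge ⟨g.2, mem_centralizer_singleton_iff.mpr hgw.eq⟩)
  -- an element moved by a multiple of `e`
  set L := W ⊔ zpowers (g : G) with hL
  have hLR : L ≤ R := sup_le (fun w hw => hw.1.1) (zpowers_le.mpr g.2)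
  have hWL : W ≤ L := le_sup_left
  haveI : (W.subgroupOf L).Normal := (normal_subgroupOf_iff_le_normalizer hWL).mpr
    (sup_le le_normalizer (zpowers_le.mpr hgW))
  haveI : ((zpowers e).subgroupOf L).Normal :=
    (normal_subgroupOf_iff_le_normalizer ((zpowers_le.mpr heW).trans hWL)).mpr
      (fun l hl => hKe (hRK (hLR hl)))
  let π := QuotientGroup.mk' ((zpowers e).subgroupOf L)
  have hne : (W.subgroupOf L).map π ≠ ⊥ := by
    rw [Ne, Subgroup.map_eq_bot_iff, QuotientGroup.ker_mk']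
    exact fun hle => hxn (hle (show (⟨x, hWL hxW⟩ : L) ∈ W.subgroupOf L from hxW))
  haveI : ((W.subgroupOf L).map π).Normal :=
    Subgroup.Normal.map inferInstance π (QuotientGroup.mk'_surjective _)
  haveI : Group.IsNilpotent (L ⧸ (zpowers e).subgroupOf L) :=
    ((hR.to_le hLR).to_quotient _).isNilpotent
  obtain ⟨_, ⟨⟨w, hw, rfl⟩, hwc⟩, hw1⟩ := (bot_or_exists_ne_one _).resolve_left
    (Cfsg.Agent.Solvable.Basics.inf_center_ne_bot hne)
  have hwW : (w : G) ∈ W := hw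
  have hwn : (w : G) ∉ zpowers e := fun hm => hw1 ((QuotientGroup.eq_one_iff w).mpr hm)
  let gl : L := ⟨g, mem_sup_right (mem_zpowers _)⟩
  have hcomm : (w : G)⁻¹ * (g * w * (g : G)⁻¹) ∈ zpowers e := by
    have h1 : π (w⁻¹ * (gl * w * gl⁻¹)) = 1 := by
      rw [map_mul, map_mul, map_mul, map_inv, map_inv, mem_center_iff.mp hwc (π gl),
        mul_inv_cancel_right, inv_mul_cancel]
    exact (QuotientGroup.eq_one_iff (w⁻¹ * (gl * w * gl⁻¹))).mp h1
  refine h.not_shifted he heo hKe (hRK hwW.1.1)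
    (orderOf_eq_prime hwW.2.1 fun h1 => hwn (h1 ▸ one_mem _)) (hRe _ hwW.1.1) hwn (hRK g.2)
    (hRe _ g.2) hcomm (fun h1 => ?_) (by group)
  exact hwn (hM w hwW (mul_inv_eq_iff_eq_mul.mp (inv_mul_eq_one.mp h1).symm))

theorem coreIn_uniq {e : G} (he : e ∈ K) (heo : orderOf e = r)
    (hKe : K ≤ normalizer (zpowers e : Set G)) : Uniq r (coreIn r K) := by
  by_contra hnu
  set R := coreIn r K
  have heR : e ∈ R := le_coreIn (zpowers_le.mpr he) hKe (isPGroup_zpowers h.rp heo) (mem_zpowers e)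
  obtain ⟨x, hx, hxo, hxn, hxc⟩ :=
    h.exists_central he heo hKe (coreIn_le r K) (coreIn_isPGroup r K) heR hnu
  let Z : Subgroup G :=
    { carrier := {w | w ∈ R ∧ w ^ r = 1 ∧ ∀ c ∈ R, Commute c w}
      one_mem' := ⟨one_mem _, one_pow r, fun c _ => Commute.one_right c⟩
      mul_mem' := fun {a b} ha hb => ⟨mul_mem ha.1 hb.1,
        by rw [(hb.2.2 a ha.1).mul_pow, ha.2.1, hb.2.1, one_mul],
        fun c hc => (ha.2.2 c hc).mul_right (hb.2.2 c hc)⟩
      inv_mem' := fun {a} ha => ⟨inv_mem ha.1, by rw [inv_pow, ha.2.1, inv_one],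
        fun c hc => (ha.2.2 c hc).inv_right⟩ }
  have hZ : Cfsg.IsElementaryAbelian r Z :=
    ⟨⟨⟨fun a b => Subtype.ext (b.2.2.2 a a.2.1).eq⟩⟩, fun a ha => ha.2.1⟩
  refine h.no_normal_elem (L := Z) (fun w hw => coreIn_le r K hw.1) ?_ hZ ?_
  · intro g hg
    refine mem_normalizer_fintype fun w hw => ?_
    have hgR := le_normalizer_coreIn r K hg
    refine ⟨(mem_normalizer_iff.mp hgR w).mp hw.1, by rw [conj_pow, hw.2.1, mul_one, mul_inv_cancel],
      fun c hc => ?_⟩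
    have h1 := (hw.2.2 _ ((mem_normalizer_iff''.mp hgR c).mp hc)).map (MulAut.conj g).toMonoidHom
    simpa [mul_assoc] using h1
  · intro hcyc
    exact hxn (uniq_of_isCyclic h.rp hcyc e
      ⟨heR, heo ▸ pow_orderOf_eq_one e, fun c hc => commute_of_same_prime h.rp heo
        (hKe (coreIn_le r K hc)) (coreIn_isPGroup r K) hc⟩
      x ⟨hx, hxo ▸ pow_orderOf_eq_one x, hxc⟩ heo hxo (hxc e heR))

theorem exists_normal_prime (hne : coreIn r K ≠ ⊥) :
    ∃ e ∈ coreIn r K, orderOf e = r ∧ K ≤ normalizer (zpowers e : Set G) := by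
  obtain ⟨L, hL, hKL, hL1, l, hl, hd, hel⟩ :=
    exists_normal_elem (coreIn_le r K) (le_normalizer_coreIn r K) hne
  haveI := Fact.mk h.rp
  obtain ⟨k, hk⟩ := IsPGroup.iff_card.mp (coreIn_isPGroup r K)
  obtain rfl : l = r := (Nat.prime_dvd_prime_iff_eq hl h.rp).mp (hl.dvd_of_dvd_pow (hk ▸ hd))
  rcases elem_cases hl hel hL1 with hnc | ⟨e, he, heo, rfl⟩
  · exact (h.no_normal_elem (hL.trans (coreIn_le _ K)) hKL hel hnc).elim
  · exact ⟨e, hL he, heo, hKL⟩

theorem finish (hne : coreIn r K ≠ ⊥) (hs2 : coreIn s K = ⊥ ∨ s ≠ 2) : False := by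
  haveI := Fact.mk h.rp
  obtain ⟨e, heR, heo, hKe⟩ := h.exists_normal_prime hne
  have he := coreIn_le r K heR
  obtain ⟨E, hEK, hE, hnc⟩ := h.swap.exists_E
  set R₂ := coreIn r K ⊔ E
  have hR₂K : R₂ ≤ K := sup_le (coreIn_le r K) hEK
  have hR₂ : IsPGroup r R₂ := IsPGroup.to_sup_of_normal_left' (coreIn_isPGroup r K) (isPGroup_of_elem hE)
    (hEK.trans (le_normalizer_coreIn r K))
  obtain ⟨x, hx, hxo, hxn, hxc⟩ := h.exists_central he heo hKe hR₂K hR₂ (mem_sup_left heR)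
    (not_uniq_of_elem h.rp le_sup_right hE hnc)
  have hxr : x ∈ coreIn r K := by
    refine mem_coreIn_of_centralizes (hR₂K hx) ⟨1, by rw [pow_one, ← hxo, pow_orderOf_eq_one]⟩ ?_
    intro l hl hd y hy
    rcases h.prime_mem hl le_rfl hd with rfl | rfl
    · exact (hxc y (mem_sup_left hy)).symm
    · by_cases hb : coreIn l K = ⊥
      · rw [(eq_bot_iff_forall _).mp hb y hy]; exact Commute.one_right x
      have hl2 := hs2.resolve_left hb
      obtain ⟨f, hfS, hfo, hKf⟩ := h.swap.exists_normal_prime hb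
      have hf := coreIn_le l K hfS
      have hu := h.swap.coreIn_uniq hf hfo hKf
      haveI := Fact.mk hl
      refine mem_centralizer_iff.mp (Coprime.OmegaDetect.mem_centralizer_of_fix (p := l)
        (by rw [hxo]; exact (Nat.coprime_primes h.rp hl).mpr h.hrs) (coreIn_isPGroup l K)
        (le_normalizer_coreIn l K (hR₂K hx)) fun a ha hcase => ?_) y hy |>.symm
      have hal := hcase.resolve_right fun h2 => hl2 h2.1
      by_cases ha1 : a = 1
      · simp [ha1]
      have hmem : a ∈ zpowers f := hu f hfS a ha hfo (orderOf_eq_prime hal ha1)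
        (commute_of_same_prime hl hfo (hKf (coreIn_le l K ha)) (coreIn_isPGroup l K) ha).symm
      obtain ⟨i, rfl⟩ := hmem
      exact ((h.swap.normal_central hf hfo hKf (hR₂K hx) hxo).zpow_right i).eq
  exact hxn (h.coreIn_uniq he heo hKe e heR x hxr heo hxo
    (hxc e (mem_sup_left heR)))

theorem absurd_twoMod : False := by
  have hK : K ≠ ⊥ := by
    obtain ⟨E, hEK, hE, hnc⟩ := h.exists_E
    intro hb
    obtain rfl : E = ⊥ := le_bot_iff.mp (hb ▸ hEK)
    exact hnc inferInstance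
  obtain ⟨l, hl, hd, hne⟩ := exists_coreIn_ne_bot hK
  rcases h.prime_mem hl le_rfl hd with rfl | rfl
  · by_cases hs : coreIn s K = ⊥
    · exact h.finish hne (Or.inl hs)
    by_cases hs2 : s = 2
    · exact h.swap.finish hs (Or.inr (hs2 ▸ h.hrs))
    · exact h.finish hne (Or.inr hs2)
  · by_cases hr : coreIn r K = ⊥
    · exact h.swap.finish hne (Or.inl hr)
    by_cases hr2 : r = 2
    · exact h.finish hr (Or.inr (hr2 ▸ h.hrs.symm))
    · exact h.swap.finish hne (Or.inr hr2)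

end TwoMod

end Cfsg.Agent.Components.FourPrimes
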